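import Mathlib
import Cfsg.Prelude.Def_Classical
import Cfsg.Agent.ClassicalGeometry.SympBasic
import Cfsg.Agent.ClassicalGeometry.SympIso
import Cfsg.Agent.LieClassical.SympCenter
import Cfsg.Agent.H150.Fpf
set_option linter.all false

/-!
# Isometries of abstract symplectic spaces and elements of `PSp` (helper150)
-/

set_option autoImplicit false
set_option linter.style.haveILetI false

namespace Cfsg.Agent.H150

open Module Cfsg
open Cfsg.Agent.ClassicalGeometry.SympBasic Cfsg.Agent.ClassicalGeometry.SympIso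
open Cfsg.Agent.LieClassical.SympCenter

variable {F : Type*} [Field F]

theorem orderOf_eq_of_forall {G : Type*} [Group G] {g : G} {m : ℕ} (h : ∀ j : ℕ, g ^ j = 1 ↔ m ∣ j) :
    orderOf g = m :=
  Nat.dvd_antisymm (orderOf_dvd_of_pow_eq_one ((h m).2 dvd_rfl)) ((h _).1 (pow_orderOf_eq_one g))

theorem mk_psp_pow_eq_one_iff {m : ℕ} (hm : 1 ≤ m) (A : Matrix.symplecticGroup (Fin m) F) (j : ℕ) :
    (QuotientGroup.mk A : PSp m F) ^ j = 1 ↔ A.1 ^ j = 1 ∨ A.1 ^ j = -1 := by
  rw [← QuotientGroup.mk_pow, QuotientGroup.eq_one_iff, mem_center_iff]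
  constructor
  · rintro ⟨a, ha⟩
    have h1 := sq_eq_one_of_smul_mem hm (ha ▸ (A ^ j).2)
    rw [SubmonoidClass.coe_pow] at ha
    rcases mul_self_eq_one_iff.1 h1 with rfl | rfl
    · left; rw [ha, one_smul]
    · right; rw [ha, neg_smul, one_smul]
  · rintro (h | h)
    · exact ⟨1, by rw [SubmonoidClass.coe_pow, h, one_smul]⟩
    · exact ⟨-1, by rw [SubmonoidClass.coe_pow, h, neg_smul, one_smul]⟩

/-- An isometry `T` of a symplectic space gives an element of `PSp`. -/
theorem exists_psp {m : ℕ} (hm : 1 ≤ m) {V : Type*} [AddCommGroup V] [Module F V] [FiniteDimensional F V]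
    (B : LinearMap.BilinForm F V) (hA : B.IsAlt) (hnd : ∀ u, (∀ v, B u v = 0) → u = 0)
    (hk : finrank F V = 2 * m) (T : V →ₗ[F] V) (hT : ∀ x y, B (T x) (T y) = B x y) (N : ℕ)
    (hN : ∀ j : ℕ, (T ^ j = 1 ∨ T ^ j = -1) ↔ N ∣ j) : ∃ g : PSp m F, orderOf g = N := by
  obtain ⟨e, he⟩ := exists_linearEquiv_sympForm B hA hnd hk
  let φ : Module.End F V ≃ₐ[F] Matrix (Fin m ⊕ Fin m) (Fin m ⊕ Fin m) F :=
    (e.symm.conjAlgEquiv F).trans LinearMap.toMatrixAlgEquiv'
  have hφ : ∀ x, (φ T).mulVec x = e.symm (T (e x)) := by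
    intro x
    show (LinearMap.toMatrix' (e.symm.conj T)).mulVec x = _
    rw [LinearMap.toMatrix'_mulVec]
    rfl
  have hmem : φ T ∈ Matrix.symplecticGroup (Fin m) F := by
    rw [mem_symplecticGroup_iff]
    intro x y
    rw [hφ, hφ, ← he, ← he, e.apply_symm_apply, e.apply_symm_apply, hT]
  refine ⟨QuotientGroup.mk ⟨φ T, hmem⟩, orderOf_eq_of_forall fun j => ?_⟩
  rw [mk_psp_pow_eq_one_iff hm, ← hN]
  show (φ T) ^ j = 1 ∨ (φ T) ^ j = -1 ↔ _
  rw [← map_pow]
  constructor
  · rintro (h | h)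
    · left; apply φ.injective; rw [h, map_one]
    · right; apply φ.injective; rw [h, map_neg, map_one]
  · rintro (h | h)
    · left; rw [h, map_one]
    · right; rw [h, map_neg, map_one]

/-- the linear map of an element of `Sp` -/
noncomputable def spLin {m : ℕ} (A : Matrix.symplecticGroup (Fin m) F) :
    (Fin m ⊕ Fin m → F) →ₗ[F] (Fin m ⊕ Fin m → F) := Matrix.toLinAlgEquiv' A.1

theorem spLin_isom {m : ℕ} (A : Matrix.symplecticGroup (Fin m) F) (x y : Fin m ⊕ Fin m → F) :
    sympBilin m F (spLin A x) (spLin A y) = sympBilin m F x y := by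
  rw [sympBilin_apply, sympBilin_apply]
  exact sympForm_mulVec A.2 x y

theorem spLin_pow_iff {m : ℕ} (hm : 1 ≤ m) (A : Matrix.symplecticGroup (Fin m) F) (j : ℕ) :
    (QuotientGroup.mk A : PSp m F) ^ j = 1 ↔ ((spLin A) ^ j = 1 ∨ (spLin A) ^ j = -1) := by
  rw [mk_psp_pow_eq_one_iff hm]
  unfold spLin
  rw [← map_pow]
  constructor
  · rintro (h | h)
    · left; rw [h, map_one]
    · right; rw [h, map_neg, map_one]
  · rintro (h | h)
    · left; apply (Matrix.toLinAlgEquiv' (R := F)).injective; rw [h, map_one]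
    · right; apply (Matrix.toLinAlgEquiv' (R := F)).injective; rw [h, map_neg, map_one]

/-- the form of a direct sum -/
def sumForm {V W : Type*} [AddCommGroup V] [Module F V] [AddCommGroup W] [Module F W]
    (B : LinearMap.BilinForm F V) (C : LinearMap.BilinForm F W) : LinearMap.BilinForm F (V × W) :=
  B.compl₁₂ (LinearMap.fst F V W) (LinearMap.fst F V W) + C.compl₁₂ (LinearMap.snd F V W) (LinearMap.snd F V W)

theorem sumForm_apply {V W : Type*} [AddCommGroup V] [Module F V] [AddCommGroup W] [Module F W]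
    (B : LinearMap.BilinForm F V) (C : LinearMap.BilinForm F W) (x y : V × W) :
    sumForm B C x y = B x.1 y.1 + C x.2 y.2 := rfl

theorem sumForm_nondeg {V W : Type*} [AddCommGroup V] [Module F V] [AddCommGroup W] [Module F W]
    (B : LinearMap.BilinForm F V) (C : LinearMap.BilinForm F W) (hB : ∀ u, (∀ v, B u v = 0) → u = 0)
    (hC : ∀ u, (∀ v, C u v = 0) → u = 0) (x : V × W) (h : ∀ y, sumForm B C x y = 0) : x = 0 := by
  refine Prod.ext (hB _ fun v => ?_) (hC _ fun v => ?_)
  · have := h (v, 0)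
    rw [sumForm_apply] at this
    simpa using this
  · have := h (0, v)
    rw [sumForm_apply] at this
    simpa using this

theorem prodMap_pow {V W : Type*} [AddCommGroup V] [Module F V] [AddCommGroup W] [Module F W]
    (S : V →ₗ[F] V) (T : W →ₗ[F] W) (j : ℕ) : (S.prodMap T) ^ j = (S ^ j).prodMap (T ^ j) := by
  induction j with
  | zero => rw [pow_zero, pow_zero, pow_zero]; rfl
  | succ j ih => rw [pow_succ, ih, pow_succ, pow_succ]; rfl

/-- A nondegenerate alternating form: the dimension is even. -/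
theorem even_finrank_of_alt {V : Type*} [AddCommGroup V] [Module F V] [FiniteDimensional F V]
    (B : LinearMap.BilinForm F V) (hA : B.IsAlt) (hnd : ∀ u, (∀ v, B u v = 0) → u = 0) :
    Even (finrank F V) := by
  obtain ⟨m, l, b, h1, h2, h3, h4⟩ := Cfsg.Agent.S0752.result B hA
  have hl : l = 0 := by
    by_contra hl
    have := hnd _ (h4 ⟨0, Nat.pos_of_ne_zero hl⟩)
    exact b.ne_zero _ this
  subst hl
  have := Module.finrank_eq_card_basis b
  simp at this
  exact ⟨m, this⟩

end Cfsg.Agent.H150
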