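import Mathlib
import Cfsg.Prelude.Def_Classical
import Cfsg.Agent.ClassicalGeometry.OmegaIndex
import Cfsg.Agent.LieClassical.OrthCount
import Cfsg.Agent.LieClassical.OrthFinite
import Cfsg.Agent.LieClassical.OrthCenter
import Cfsg.Agent.Fischer919.OmegaIdent
set_option linter.all false

/-!
# Orthogonal groups of abstract odd-dimensional quadratic spaces and `POmega` (helper150)
-/

set_option autoImplicit false
set_option linter.style.haveILetI false

namespace Cfsg.Agent.H150

open Module Cfsg
open Cfsg.Agent.LieClassical.OrthCount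

variable {F : Type*} [Field F]

/-- isomorphic groups have isomorphic commutator subgroups, compatibly -/
theorem mem_commutator_congr {G H : Type*} [Group G] [Group H] (e : G ≃* H) (g : G) :
    e g ∈ commutator H ↔ g ∈ commutator G := by
  have h1 : (commutator G).map (e : G →* H) = commutator H := by
    rw [_root_.commutator_def, _root_.commutator_def, Subgroup.map_commutator]
    rw [Subgroup.map_top_of_surjective _ e.surjective]
  rw [← h1]
  constructor
  · rintro ⟨x, hx, hxg⟩
    have : x = g := e.injective hxg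
    rwa [← this]
  · intro h
    exact ⟨g, h, rfl⟩

/-- isomorphism of commutator subgroups -/
noncomputable def commutatorCongr {G H : Type*} [Group G] [Group H] (e : G ≃* H) :
    commutator G ≃* commutator H :=
  (e.subgroupMap (commutator G)).trans (MulEquiv.subgroupCongr (by
    rw [_root_.commutator_def, _root_.commutator_def, Subgroup.map_commutator]
    rw [Subgroup.map_top_of_surjective _ e.surjective]))

section Abstract

variable {V : Type*} [AddCommGroup V] [Module F V]

/-- nondegeneracy in elementary terms -/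
def ND (Q : QuadraticForm F V) : Prop := ∀ x : V, (∀ y : V, QuadraticMap.polar Q x y = 0) → x = 0

/-- the transported form -/
noncomputable def transport {n : ℕ} (e : V ≃ₗ[F] (Fin n → F)) (Q : QuadraticForm F V) :
    QuadraticForm F (Fin n → F) := Q.comp e.symm.toLinearMap

theorem transport_apply {n : ℕ} (e : V ≃ₗ[F] (Fin n → F)) (Q : QuadraticForm F V) (v : V) :
    transport e Q (e v) = Q v := by
  show Q (e.symm (e v)) = Q v
  rw [e.symm_apply_apply]

theorem transport_nondegenerate {n : ℕ} (e : V ≃ₗ[F] (Fin n → F)) (Q : QuadraticForm F V) (hQ : ND Q) :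
    (QuadraticMap.polarBilin (transport e Q)).Nondegenerate := by
  have hp : ∀ x y, QuadraticMap.polar (⇑(transport e Q)) x y = QuadraticMap.polar Q (e.symm x) (e.symm y) := by
    intro x y
    simp only [QuadraticMap.polar]
    show Q (e.symm (x + y)) - Q (e.symm x) - Q (e.symm y) = _
    rw [map_add]
  constructor
  · intro x hx
    have : e.symm x = 0 := hQ _ fun y => by
      have := hx (e y)
      rw [QuadraticMap.polarBilin_apply_apply, hp, e.symm_apply_apply] at this
      exact this
    exact (LinearEquiv.map_eq_zero_iff e.symm).1 this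
  · intro x hx
    have : e.symm x = 0 := hQ _ fun y => by
      have := hx (e y)
      rw [QuadraticMap.polarBilin_apply_apply, hp, e.symm_apply_apply, QuadraticMap.polar_comm] at this
      exact this
    exact (LinearEquiv.map_eq_zero_iff e.symm).1 this

/-- the isometry group as a matrix group -/
noncomputable def toMat {n : ℕ} (e : V ≃ₗ[F] (Fin n → F)) (Q : QuadraticForm F V) :
    OG Q ≃* isometryGroup F (⇑(transport e Q)) :=
  (OGcongr e (transport_apply e Q)).trans (isometryGroupEquiv (transport e Q)).symm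

theorem det_toMat {n : ℕ} (e : V ≃ₗ[F] (Fin n → F)) (Q : QuadraticForm F V) (T : OG Q) :
    ((toMat e Q T : Matrix.GeneralLinearGroup (Fin n) F) : Matrix (Fin n) (Fin n) F).det =
      LinearMap.det ((T : V ≃ₗ[F] V) : V →ₗ[F] V) := by
  have h1 : Matrix.toLin' ((toMat e Q T : Matrix.GeneralLinearGroup (Fin n) F) : Matrix (Fin n) (Fin n) F) =
      e.toLinearMap ∘ₗ ((T : V ≃ₗ[F] V) : V →ₗ[F] V) ∘ₗ e.symm.toLinearMap := by
    apply LinearMap.ext
    intro v
    have h2 : isometryGroupEquiv (transport e Q) (toMat e Q T) = OGcongr e (transport_apply e Q) T := by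
      show isometryGroupEquiv (transport e Q) ((isometryGroupEquiv (transport e Q)).symm _) = _
      rw [MulEquiv.apply_symm_apply]
      rfl
    have h3 := congrArg (fun g : OG (transport e Q) => (g : (Fin n → F) ≃ₗ[F] (Fin n → F)) v) h2
    exact h3
  rw [← LinearMap.det_toLin', h1]
  exact LinearMap.det_conj _ e

/-- **squares lie in the commutator subgroup, and so on** -/
theorem exists_spinor [Finite F] (h2 : (2 : F) ≠ 0) [FiniteDimensional F V] (Q : QuadraticForm F V) (hQ : ND Q)
    (hd : 2 ≤ finrank F V) : ∃ σ : OG Q →* ℤˣ, ∀ T : OG Q, T ∈ commutator (OG Q) ↔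
      LinearMap.det ((T : V ≃ₗ[F] V) : V →ₗ[F] V) = 1 ∧ σ T = 1 := by
  obtain ⟨n, hn⟩ : ∃ n, finrank F V = n := ⟨_, rfl⟩
  let e : V ≃ₗ[F] (Fin n → F) := LinearEquiv.ofFinrankEq _ _ (by rw [hn]; simp)
  refine ⟨(Cfsg.Agent.ClassicalGeometry.SpinorSign.spinorSign (⇑(transport e Q)) 1).comp (toMat e Q).toMonoidHom,
    fun T => ?_⟩
  rw [← mem_commutator_congr (toMat e Q), ← det_toMat e Q T]
  exact Cfsg.Agent.ClassicalGeometry.OmegaIndex.mem_Omega_iff h2 (transport e Q)
    (transport_nondegenerate e Q hQ) (by simpa [hn] using hd) one_ne_zero (toMat e Q T)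

theorem det_mul_self [Finite F] (h2 : (2 : F) ≠ 0) [FiniteDimensional F V] (Q : QuadraticForm F V) (hQ : ND Q)
    (T : OG Q) : LinearMap.det ((T : V ≃ₗ[F] V) : V →ₗ[F] V) * LinearMap.det ((T : V ≃ₗ[F] V) : V →ₗ[F] V) = 1 := by
  obtain ⟨n, hn⟩ : ∃ n, finrank F V = n := ⟨_, rfl⟩
  let e : V ≃ₗ[F] (Fin n → F) := LinearEquiv.ofFinrankEq _ _ (by rw [hn]; simp)
  rw [← det_toMat e Q T]
  generalize toMat e Q T = g
  refine Cfsg.Agent.ClassicalGeometry.CartanDieudonne.isometry_induction h2 (transport e Q)
    (transport_nondegenerate e Q hQ)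
    (fun g => ((g : Matrix.GeneralLinearGroup (Fin n) F) : Matrix (Fin n) (Fin n) F).det *
      ((g : Matrix.GeneralLinearGroup (Fin n) F) : Matrix (Fin n) (Fin n) F).det = 1) ?_ ?_ g
  · show (1 : Matrix (Fin n) (Fin n) F).det * (1 : Matrix (Fin n) (Fin n) F).det = 1
    rw [Matrix.det_one, mul_one]
  · intro u hu g hg
    show (((Cfsg.Agent.ClassicalGeometry.Reflection.reflIso (transport e Q) u hu :
      Matrix.GeneralLinearGroup (Fin n) F) : Matrix (Fin n) (Fin n) F) * _).det *
      (((Cfsg.Agent.ClassicalGeometry.Reflection.reflIso (transport e Q) u hu :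
      Matrix.GeneralLinearGroup (Fin n) F) : Matrix (Fin n) (Fin n) F) * _).det = 1
    rw [Matrix.det_mul, Cfsg.Agent.ClassicalGeometry.Reflection.det_reflIso]
    linear_combination hg

/-- squares of isometries lie in the commutator subgroup -/
theorem sq_mem_commutator [Finite F] (h2 : (2 : F) ≠ 0) [FiniteDimensional F V] (Q : QuadraticForm F V) (hQ : ND Q)
    (hd : 2 ≤ finrank F V) (T : OG Q) : T ^ 2 ∈ commutator (OG Q) := by
  obtain ⟨σ, hσ⟩ := exists_spinor h2 Q hQ hd
  rw [hσ]
  constructor
  · have h := det_mul_self h2 Q hQ T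
    have : (((T ^ 2 : OG Q) : V ≃ₗ[F] V) : V →ₗ[F] V) =
        ((T : V ≃ₗ[F] V) : V →ₗ[F] V) ∘ₗ ((T : V ≃ₗ[F] V) : V →ₗ[F] V) := by
      rw [sq]; rfl
    rw [this, LinearMap.det_comp, h]
  · rw [map_pow, sq]
    exact Int.units_mul_self _

/-- isometries of odd order lie in the commutator subgroup -/
theorem odd_mem_commutator [Finite F] (h2 : (2 : F) ≠ 0) [FiniteDimensional F V] (Q : QuadraticForm F V) (hQ : ND Q)
    (hd : 2 ≤ finrank F V) (T : OG Q) {N : ℕ} (hN : Odd N) (hT : T ^ N = 1) : T ∈ commutator (OG Q) := by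
  obtain ⟨m, rfl⟩ := hN
  have h1 : T = (T ^ (m + 1)) ^ 2 := by
    rw [← pow_mul]
    have : (m + 1) * 2 = (2 * m + 1) + 1 := by ring
    rw [this, pow_succ, hT, one_mul]
  rw [h1]
  exact sq_mem_commutator h2 Q hQ hd _

/-- **the commutator subgroup of the orthogonal group of an odd-dimensional space is `POmega`** -/
theorem nonempty_pomega [Finite F] (h2 : (2 : F) ≠ 0) [FiniteDimensional F V] (Q : QuadraticForm F V) (hQ : ND Q)
    {n : ℕ} (hn : 1 ≤ n) (hd : finrank F V = 2 * n + 1) :
    Nonempty (commutator (OG Q) ≃* POmega F (quadFormOdd n F)) := by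
  let e : V ≃ₗ[F] (Fin (2 * n + 1) → F) := LinearEquiv.ofFinrankEq _ _ (by rw [hd]; simp)
  obtain ⟨e1⟩ := Cfsg.Agent.Fischer919.OmegaIdent.exists_equiv_quadFormOdd h2 (transport e Q)
    (transport_nondegenerate e Q hQ)
  have hs : ∃ u : Fin (2 * n + 1) → F, u ≠ 0 ∧ transport e Q u = 0 := by
    obtain ⟨w, -, hw0, hw⟩ := Cfsg.Agent.LieClassical.OrthFinite.exists_sing_mem (Q := transport e Q) ⊤
      (by rw [finrank_top]; simp; omega)
    exact ⟨w, hw0, hw⟩
  have hc : Subgroup.center (Omega F (⇑(transport e Q))) = ⊥ :=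
    Cfsg.Agent.LieClassical.OrthCenter.center_omega_eq_bot_of_odd h2 (transport_nondegenerate e Q hQ)
      (by simp; omega) (by simp) hs
  let e2 : commutator (OG Q) ≃* Omega F (⇑(transport e Q)) := commutatorCongr (toMat e Q)
  let e3 : (Omega F (⇑(transport e Q)) ⧸ Subgroup.center (Omega F (⇑(transport e Q)))) ≃*
      Omega F (⇑(transport e Q)) :=
    (QuotientGroup.quotientMulEquivOfEq hc).trans QuotientGroup.quotientBot
  exact ⟨(e2.trans e3.symm).trans e1⟩

end Abstract

end Cfsg.Agent.H150
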