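import Mathlib
import Cfsg.Agent.H150.SpForm
set_option linter.all false

/-!
# Semisimple elements of prime order commuting with unipotent ones in symplectic groups (helper150)
-/

set_option autoImplicit false
set_option linter.style.haveILetI false

namespace Cfsg.Agent.H150

open Module

variable {F : Type*} [Field F] {V : Type*} [AddCommGroup V] [Module F V]

/-- if `s ^ r = 1` with `r` odd then `s ^ 2 x = x` implies `s x = x` -/
theorem fix_of_sq_fix {r : ℕ} (hr : Odd r) (s : V →ₗ[F] V) (hs : s ^ r = 1) (x : V) (h : s (s x) = x) : s x = x := by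
  obtain ⟨m, rfl⟩ := hr
  have h1 : ∀ j : ℕ, (s ^ (2 * j)) x = x := by
    intro j
    induction j with
    | zero => simp
    | succ j ih =>
      have e1 : s ^ (2 * (j + 1)) = s ^ (2 * j) * (s * s) := by
        rw [← sq, ← pow_add]; congr 1
      rw [e1, Module.End.mul_apply, Module.End.mul_apply, h, ih]
  have h2 := LinearMap.congr_fun hs (s x)
  have e2 : s ^ (2 * m + 1) = s ^ (2 * m) * s := pow_succ _ _
  have h3 : (s ^ (2 * m + 1)) (s x) = x := by
    rw [e2, Module.End.mul_apply, h, h1]
  rw [h3] at h2
  exact h2.symm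

/-- orthogonality of the fixed space and the commutator space of an isometry -/
theorem ortho_fix (B : LinearMap.BilinForm F V) (s : V →ₗ[F] V) (hs : ∀ x y, B (s x) (s y) = B x y)
    {c m : V} (hc : s c = c) (hm : m ∈ LinearMap.range (s - 1)) : B c m = 0 := by
  obtain ⟨v, rfl⟩ := hm
  rw [LinearMap.sub_apply, Module.End.one_apply, map_sub]
  nth_rewrite 1 [← hc]
  rw [hs, sub_self]

theorem ortho_fix' (B : LinearMap.BilinForm F V) (s : V →ₗ[F] V) (hs : ∀ x y, B (s x) (s y) = B x y)
    {c m : V} (hc : s c = c) (hm : m ∈ LinearMap.range (s - 1)) : B m c = 0 := by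
  obtain ⟨v, rfl⟩ := hm
  rw [LinearMap.sub_apply, Module.End.one_apply, map_sub, LinearMap.sub_apply]
  nth_rewrite 1 [← hc]
  rw [hs, sub_self]

/-- the form is nondegenerate on `range (s - 1)` -/
theorem nondeg_range [FiniteDimensional F V] {r : ℕ} (hrF : (r : F) ≠ 0) (B : LinearMap.BilinForm F V)
    (hnd : ∀ u, (∀ v, B u v = 0) → u = 0) (s : V →ₗ[F] V) (hs : s ^ r = 1)
    (hB : ∀ x y, B (s x) (s y) = B x y) (u : LinearMap.range (s - 1))
    (h : ∀ v : LinearMap.range (s - 1), B u v = 0) : u = 0 := by
  apply Subtype.ext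
  apply hnd
  intro v
  have hcompl := isCompl_fix hrF s hs
  obtain ⟨a, ha, b, hb, rfl⟩ := Submodule.mem_sup.1
    (show v ∈ LinearMap.ker (s - 1) ⊔ LinearMap.range (s - 1) by rw [hcompl.sup_eq_top]; trivial)
  rw [LinearMap.mem_ker, LinearMap.sub_apply, Module.End.one_apply, sub_eq_zero] at ha
  rw [map_add, ortho_fix' B s hB ha u.2, h ⟨b, hb⟩, add_zero]

/-- the form is nondegenerate on `ker (s - 1)` -/
theorem nondeg_ker [FiniteDimensional F V] {r : ℕ} (hrF : (r : F) ≠ 0) (B : LinearMap.BilinForm F V)
    (hnd : ∀ u, (∀ v, B u v = 0) → u = 0) (s : V →ₗ[F] V) (hs : s ^ r = 1)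
    (hB : ∀ x y, B (s x) (s y) = B x y) (u : LinearMap.ker (s - 1))
    (h : ∀ v : LinearMap.ker (s - 1), B u v = 0) : u = 0 := by
  apply Subtype.ext
  apply hnd
  intro v
  have hcompl := isCompl_fix hrF s hs
  obtain ⟨a, ha, b, hb, rfl⟩ := Submodule.mem_sup.1
    (show v ∈ LinearMap.ker (s - 1) ⊔ LinearMap.range (s - 1) by rw [hcompl.sup_eq_top]; trivial)
  have hu := u.2
  rw [LinearMap.mem_ker, LinearMap.sub_apply, Module.End.one_apply, sub_eq_zero] at hu
  rw [map_add, ortho_fix B s hB hu hb, h ⟨a, ha⟩, add_zero]

/-- **the bound** -/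
theorem symp_bound [Finite F] [FiniteDimensional F V] {n : ℕ} (hn : 2 ≤ n) (B : LinearMap.BilinForm F V)
    (hA : B.IsAlt) (hnd : ∀ u, (∀ v, B u v = 0) → u = 0) (hdim : finrank F V = 2 * n)
    {r : ℕ} (hr : r.Prime) (hr2 : r ≠ 2) (hrF : (r : F) ≠ 0)
    (s u : V →ₗ[F] V) (hsu : Commute s u) (hs : s ^ r = 1) (hs1 : s ≠ 1)
    (hsB : ∀ x y, B (s x) (s y) = B x y) (huB : ∀ x y, B (u x) (u y) = B x y)
    (hu : IsNilpotent (u - 1)) (hu1 : u ≠ 1) {k ηk : ℕ} (hk : k = orderOf ((Nat.card F : ℕ) : ZMod r))
    (hη : (Odd k ∧ ηk = k) ∨ (Even k ∧ 2 * ηk = k)) : ηk + 1 ≤ n := by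
  have hrodd : Odd r := hr.odd_of_ne_two hr2
  set C := LinearMap.ker (s - 1) with hC
  set M := LinearMap.range (s - 1) with hM
  set N := u - 1 with hN
  have hsN : Commute s N := hsu.sub_right (Commute.one_right s)
  have hcomm : ∀ v, s (N v) = N (s v) := fun v => LinearMap.congr_fun hsN.eq v
  have hcompl : IsCompl C M := isCompl_fix hrF s hs
  have hsum := Submodule.finrank_add_eq_of_isCompl hcompl
  have hfpf : ∀ v ∈ M, s v = v → v = 0 := fpf_range hrF s hs
  have hMs : ∀ w ∈ M, s w ∈ M := by
    rintro _ ⟨w, rfl⟩
    exact ⟨s w, by simp⟩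
  have hM0 : M ≠ ⊥ := by
    intro h
    rw [hM, LinearMap.range_eq_bot, sub_eq_zero] at h
    exact hs1 h
  have hkM : k ∣ finrank F M := by rw [hk]; exact dvd_finrank_of_fpf_submodule hr s hs M hMs hfpf
  have hMpos : 0 < finrank F M := by
    rw [Module.finrank_pos_iff]
    exact Submodule.nontrivial_iff_ne_bot.2 hM0
  have hMeven : Even (finrank F M) := by
    refine even_finrank_of_alt (B.restrict M) (fun x => hA _) ?_
    intro x hx
    exact nondeg_range hrF B hnd s hs hsB x hx
  have h2k : 2 * ηk ∣ finrank F M := by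
    rcases hη with ⟨h1, h2⟩ | ⟨h1, h2⟩
    · rw [h2]
      exact Nat.Coprime.mul_dvd_of_dvd_of_dvd (Nat.coprime_two_left.2 h1) hMeven.two_dvd hkM
    · rw [h2]
      exact hkM
  by_cases hC0 : C = ⊥
  · -- fixed point free
    have hCf : finrank F C = 0 := by rw [hC0]; simp
    have hMf : finrank F M = 2 * n := by omega
    have hfix : ∀ v, s v = v → v = 0 := by
      intro v hv
      have : v ∈ C := by
        rw [hC, LinearMap.mem_ker, LinearMap.sub_apply, Module.End.one_apply, hv, sub_self]
      rw [hC0] at this
      exact (Submodule.mem_bot F).1 this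
    have hinj2 : ∀ v, s (s v) = v → v = 0 := fun v hv => hfix v (fix_of_sq_fix hrodd s hs v hv)
    set W := LinearMap.ker N with hW
    have hWs : ∀ w ∈ W, s w ∈ W := by
      intro w hw
      rw [hW, LinearMap.mem_ker] at hw ⊢
      rw [← hcomm, hw, map_zero]
    have hkW : k ∣ finrank F W := by
      rw [hk]; exact dvd_finrank_of_fpf_submodule hr s hs W hWs (fun v _ => hfix v)
    have hVpos : (⊤ : Submodule F V) ≠ ⊥ := by
      intro h
      have : finrank F (⊤ : Submodule F V) = 0 := by rw [h]; simp
      rw [finrank_top, hdim] at this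
      omega
    have hWpos : 0 < finrank F W := by
      obtain ⟨w, -, hw0, hw⟩ := exists_ker_of_isNilpotent N hu ⊤ (fun _ _ => trivial) hVpos
      rw [Module.finrank_pos_iff]
      refine Submodule.nontrivial_iff_ne_bot.2 ?_
      rw [Submodule.ne_bot_iff]
      exact ⟨w, hw, hw0⟩
    have hWlt : finrank F W < 2 * n := by
      have hlt : finrank F W < finrank F V := by
        apply Submodule.finrank_lt
        intro h
        have h0 : N = 0 := LinearMap.ker_eq_top.1 h
        exact hu1 (sub_eq_zero.1 h0)
      omega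
    have hk2n : k ∣ 2 * n := by rw [← hMf]; exact hkM
    have hkle : k ≤ finrank F W := Nat.le_of_dvd hWpos hkW
    have hkn : k ≤ n := by
      obtain ⟨a, ha⟩ := hk2n
      have ha1 : 1 < a := by
        by_contra hcon
        have : a ≤ 1 := by omega
        have : k * a ≤ k * 1 := Nat.mul_le_mul_left k this
        omega
      have : k * 2 ≤ k * a := Nat.mul_le_mul_left k ha1
      omega
    rcases hη with ⟨hodd, rfl⟩ | ⟨heven, h2⟩
    · -- `k` odd
      by_contra hcon
      have hkn' : ηk = n := by omega
      have hWf : finrank F W = n := by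
        obtain ⟨a, ha⟩ := hkW
        rw [hkn'] at ha
        have ha2 : a < 2 := by
          by_contra h
          have : n * 2 ≤ n * a := Nat.mul_le_mul_left n (by omega)
          omega
        have ha0 : a ≠ 0 := by
          rintro rfl
          omega
        have : a = 1 := by omega
        rw [ha, this, mul_one]
      -- the range of `N`
      set R := LinearMap.range N with hR
      have hRN : ∀ w ∈ R, N w ∈ R := by
        rintro _ ⟨w, rfl⟩
        exact ⟨N w, rfl⟩
      have hRs : ∀ w ∈ R, s w ∈ R := by
        rintro _ ⟨w, rfl⟩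
        exact ⟨s w, (hcomm w).symm⟩
      have hRf : finrank F R = n := by
        have h := LinearMap.finrank_range_add_finrank_ker N
        change finrank F R + finrank F W = finrank F V at h
        omega
      have hRbot : R ≠ ⊥ := by
        intro h
        have : finrank F R = 0 := by rw [h]; simp
        omega
      obtain ⟨x, hx, hx0, hNx⟩ := exists_ker_of_isNilpotent N hu R hRN hRbot
      have hkI : ηk ∣ finrank F (W ⊓ R : Submodule F V) := by
        rw [hk]
        exact dvd_finrank_of_fpf_submodule hr s hs _ (fun w hw => ⟨hWs w hw.1, hRs w hw.2⟩) (fun v _ => hfix v)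
      have hIpos : 0 < finrank F (W ⊓ R : Submodule F V) := by
        rw [Module.finrank_pos_iff]
        refine Submodule.nontrivial_iff_ne_bot.2 ?_
        rw [Submodule.ne_bot_iff]
        exact ⟨x, ⟨hNx, hx⟩, hx0⟩
      have hIle := Nat.le_of_dvd hIpos hkI
      have hIW : W ⊓ R = W := Submodule.eq_of_le_of_finrank_le inf_le_left (by omega)
      have hIR : W ⊓ R = R := Submodule.eq_of_le_of_finrank_le inf_le_right (by omega)
      have hWR : W = R := by rw [← hIW]; exact hIR
      -- isotropy
      have hfixu : ∀ w ∈ W, u w = w := by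
        intro w hw
        rw [hW, LinearMap.mem_ker, hN, LinearMap.sub_apply, Module.End.one_apply, sub_eq_zero] at hw
        exact hw
      have hiso : ∀ w ∈ W, ∀ v, B w (N v) = 0 := by
        intro w hw v
        exact ortho_fix B u huB (hfixu w hw) ⟨v, rfl⟩
      have hNN : ∀ x y, B (N x) (N y) = 0 := by
        intro x y
        exact hiso _ (by rw [hWR]; exact ⟨x, rfl⟩) y
      have hsymm : ∀ x y, B x (N y) = B y (N x) := by
        intro x y
        have h1 := huB x y
        have h2 : ∀ z, u z = z + N z := by
          intro z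
          rw [hN, LinearMap.sub_apply, Module.End.one_apply]
          abel
        rw [h2, h2, map_add, map_add, LinearMap.add_apply, LinearMap.add_apply, hNN, add_zero] at h1
        have h3 : B (N x) y + B x (N y) = 0 := by
          linear_combination h1
        rw [← hA.neg_eq (N x) y]
        linear_combination h3
      -- the alternating form
      set t := s ^ (r - 1) with ht
      have hrpos := hr.pos
      have hst : ∀ x, s (t x) = x := by
        intro x
        have e1 : s * t = 1 := by
          rw [ht, ← pow_succ', Nat.sub_add_cancel hrpos, hs]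
        exact LinearMap.congr_fun e1 x
      have hts : ∀ x, t (s x) = x := by
        intro x
        have e1 : t * s = 1 := by
          rw [ht, ← pow_succ, Nat.sub_add_cancel hrpos, hs]
        exact LinearMap.congr_fun e1 x
      have htN : ∀ x, t (N x) = N (t x) := by
        intro x
        have : Commute t N := hsN.pow_left _
        exact LinearMap.congr_fun this.eq x
      let γ : LinearMap.BilinForm F V := B.compRight (N ∘ₗ (s - t))
      have hγ : ∀ x y, γ x y = B x (N (s y)) - B x (N (t y)) := by
        intro x y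
        show B x (N ((s - t) y)) = _
        rw [LinearMap.sub_apply s t y, map_sub N, map_sub]
      have hγalt : γ.IsAlt := by
        intro x
        rw [hγ, sub_eq_zero]
        rw [hsymm x (s x), ← hsB x (N (t x)), hcomm, hst]
      -- a complement of `W`
      obtain ⟨U, hU⟩ := W.exists_isCompl
      have hUf : finrank F U = n := by
        have := Submodule.finrank_add_eq_of_isCompl hU
        omega
      have hUe : Even (finrank F U) := by
        refine even_finrank_of_alt (γ.restrict U) (fun x => hγalt _) ?_
        intro x hx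
        apply Subtype.ext
        -- `γ x v = 0` for all `v`
        have h1 : ∀ v, γ v x = 0 := by
          intro v
          obtain ⟨a, ha, b, hb, rfl⟩ := Submodule.mem_sup.1
            (show v ∈ W ⊔ U by rw [hU.sup_eq_top]; trivial)
          have h2 : γ (x : V) b = 0 := hx ⟨b, hb⟩
          have h3 : γ b (x : V) = 0 := by rw [← hγalt.neg_eq, h2, neg_zero]
          rw [map_add, LinearMap.add_apply, h3, add_zero, hγ, hiso a ha, hiso a ha, sub_zero]
        have h4 : N (s x) - N (t x) = 0 := by
          apply hnd
          intro v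
          rw [← neg_eq_zero, hA.neg_eq, map_sub]
          rw [← hγ]
          exact h1 v
        have h5 : s (N x) = t (N x) := by
          rw [hcomm, htN]
          exact sub_eq_zero.1 h4
        have h6 : N (x : V) = 0 := by
          apply hinj2
          rw [h5, hst]
        have h7 : (x : V) ∈ W ⊓ U := ⟨h6, x.2⟩
        rw [hU.inf_eq_bot] at h7
        exact (Submodule.mem_bot F).1 h7
      rw [hUf, ← hkn'] at hUe
      exact (Nat.not_even_iff_odd.2 hodd) hUe
    · omega
  · have hCpos : 0 < finrank F C := by
      rw [Module.finrank_pos_iff]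
      exact Submodule.nontrivial_iff_ne_bot.2 hC0
    have h1 := Nat.le_of_dvd hMpos h2k
    obtain ⟨a, ha⟩ := hMeven
    omega

end Cfsg.Agent.H150
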