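import Mathlib
import Cfsg.Agent.H150.SpUnip
import Cfsg.Agent.H150.OrthRel
set_option linter.all false

-- part: H150/FormConv
section
/-!
# Switching between symplectic and orthogonal spaces (helper150)

`x` an isometry of odd order without fixed vectors: `B v (x v)` is a nondegenerate quadratic form when `B` is
symplectic, and `polar Q v ((x - x⁻¹) w)` is a nondegenerate symplectic form when `Q` is a nondegenerate quadratic
form; isometries commuting with `x` are isometries of the new form.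
-/

set_option autoImplicit false
set_option linter.style.haveILetI false

namespace Cfsg.Agent.H150

open Module

variable {F : Type*} [Field F] {V : Type*} [AddCommGroup V] [Module F V]

theorem pow_sub_one_mul {r : ℕ} (hr : 0 < r) {x : V →ₗ[F] V} (hx : x ^ r = 1) (v : V) :
    (x ^ (r - 1)) (x v) = v := by
  have e1 : x ^ (r - 1) * x = 1 := by
    rw [← pow_succ, Nat.sub_add_cancel hr, hx]
  exact LinearMap.congr_fun e1 v

theorem mul_pow_sub_one {r : ℕ} (hr : 0 < r) {x : V →ₗ[F] V} (hx : x ^ r = 1) (v : V) :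
    x ((x ^ (r - 1)) v) = v := by
  have e1 : x * x ^ (r - 1) = 1 := by
    rw [← pow_succ', Nat.sub_add_cancel hr, hx]
  exact LinearMap.congr_fun e1 v

/-- `x - x⁻¹` is injective -/
theorem sub_inv_injective {r : ℕ} (hr : Odd r) {x : V →ₗ[F] V} (hx : x ^ r = 1) (hf : ∀ v, x v = v → v = 0)
    (v : V) (h : x v = (x ^ (r - 1)) v) : v = 0 := by
  apply hf
  apply fix_of_sq_fix hr x hx
  rw [h]
  exact mul_pow_sub_one hr.pos hx v

theorem sub_inv_surjective [FiniteDimensional F V] {r : ℕ} (hr : Odd r) {x : V →ₗ[F] V} (hx : x ^ r = 1)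
    (hf : ∀ v, x v = v → v = 0) (w : V) : ∃ v, x v - (x ^ (r - 1)) v = w := by
  have hinj : Function.Injective (x - x ^ (r - 1)) := by
    rw [← LinearMap.ker_eq_bot, LinearMap.ker_eq_bot']
    intro v hv
    rw [LinearMap.sub_apply, sub_eq_zero] at hv
    exact sub_inv_injective hr hx hf v hv
  obtain ⟨v, hv⟩ := (LinearMap.injective_iff_surjective.1 hinj) w
  exact ⟨v, hv⟩

/-- the quadratic form `v ↦ B v (x v)` -/
noncomputable def symQuad (B : LinearMap.BilinForm F V) (x : V →ₗ[F] V) : QuadraticForm F V :=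
  LinearMap.BilinMap.toQuadraticMap (B.compRight x)

theorem symQuad_apply (B : LinearMap.BilinForm F V) (x : V →ₗ[F] V) (v : V) : symQuad B x v = B v (x v) := rfl

theorem symQuad_map (B : LinearMap.BilinForm F V) (x y : V →ₗ[F] V) (hy : ∀ v w, B (y v) (y w) = B v w)
    (hxy : ∀ v, x (y v) = y (x v)) (v : V) : symQuad B x (y v) = symQuad B x v := by
  rw [symQuad_apply, symQuad_apply, hxy, hy]

theorem polar_symQuad (B : LinearMap.BilinForm F V) (hA : B.IsAlt) {r : ℕ} (hr : 0 < r) (x : V →ₗ[F] V)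
    (hB : ∀ v w, B (x v) (x w) = B v w) (hx : x ^ r = 1) (v w : V) :
    QuadraticMap.polar (symQuad B x) v w = B v (x w - (x ^ (r - 1)) w) := by
  rw [QuadraticMap.polar, symQuad_apply, symQuad_apply, symQuad_apply, map_add, map_add, map_add,
    LinearMap.add_apply, LinearMap.add_apply, map_sub]
  have h1 : B v ((x ^ (r - 1)) w) = B (x v) w := by
    rw [← hB, mul_pow_sub_one hr hx]
  have h2 : B w (x v) = - B (x v) w := by rw [hA.neg_eq]
  rw [h1, h2]
  ring

theorem symQuad_nd [FiniteDimensional F V] (B : LinearMap.BilinForm F V) (hA : B.IsAlt)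
    (hnd : ∀ u, (∀ v, B u v = 0) → u = 0) {r : ℕ} (hr : Odd r) (x : V →ₗ[F] V)
    (hB : ∀ v w, B (x v) (x w) = B v w) (hx : x ^ r = 1) (hf : ∀ v, x v = v → v = 0) (u : V)
    (h : ∀ v, QuadraticMap.polar (symQuad B x) u v = 0) : u = 0 := by
  apply hnd
  intro v
  obtain ⟨w, rfl⟩ := sub_inv_surjective hr hx hf v
  rw [← polar_symQuad B hA hr.pos x hB hx]
  exact h w

/-- the alternating form `polar Q v ((x - x⁻¹) w)` -/
noncomputable def quadSym (Q : QuadraticForm F V) (x : V →ₗ[F] V) (r : ℕ) : LinearMap.BilinForm F V :=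
  LinearMap.BilinForm.compRight (QuadraticMap.polarBilin Q) (x - x ^ (r - 1))

theorem quadSym_apply (Q : QuadraticForm F V) (x : V →ₗ[F] V) (r : ℕ) (v w : V) :
    quadSym Q x r v w = QuadraticMap.polar Q v (x w - (x ^ (r - 1)) w) := rfl

theorem polar_isom (Q : QuadraticForm F V) (y : V →ₗ[F] V) (hy : ∀ v, Q (y v) = Q v) (v w : V) :
    QuadraticMap.polar Q (y v) (y w) = QuadraticMap.polar Q v w := by
  simp only [QuadraticMap.polar, ← map_add, hy]

theorem quadSym_alt (Q : QuadraticForm F V) {r : ℕ} (hr : 0 < r) (x : V →ₗ[F] V) (hQ : ∀ v, Q (x v) = Q v)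
    (hx : x ^ r = 1) : (quadSym Q x r).IsAlt := by
  intro v
  rw [quadSym_apply, QuadraticMap.polar_sub_right, sub_eq_zero]
  rw [← polar_isom Q x hQ v ((x ^ (r - 1)) v), mul_pow_sub_one hr hx, QuadraticMap.polar_comm]

theorem quadSym_nd [FiniteDimensional F V] (Q : QuadraticForm F V)
    (hnd : ∀ u, (∀ v, QuadraticMap.polar Q u v = 0) → u = 0) {r : ℕ} (hr : Odd r) (x : V →ₗ[F] V)
    (hx : x ^ r = 1) (hf : ∀ v, x v = v → v = 0) (u : V)
    (h : ∀ v, quadSym Q x r u v = 0) : u = 0 := by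
  apply hnd
  intro v
  obtain ⟨w, rfl⟩ := sub_inv_surjective hr hx hf v
  rw [← quadSym_apply]
  exact h w

theorem quadSym_map (Q : QuadraticForm F V) (x y : V →ₗ[F] V) (r : ℕ) (hy : ∀ v, Q (y v) = Q v)
    (hxy : ∀ v, x (y v) = y (x v)) (v w : V) : quadSym Q x r (y v) (y w) = quadSym Q x r v w := by
  have h1 : ∀ (j : ℕ) (z : V), (x ^ j) (y z) = y ((x ^ j) z) := by
    intro j
    induction j with
    | zero => intro z; simp
    | succ j ih => intro z; rw [pow_succ, Module.End.mul_apply, hxy, ih, Module.End.mul_apply]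
  rw [quadSym_apply, quadSym_apply, hxy, h1, ← map_sub, polar_isom Q y hy]

end Cfsg.Agent.H150
end

-- part: H150/OrthProd
section
/-!
# Orthogonal sums and isometries given by endomorphisms (helper150)
-/

set_option autoImplicit false
set_option linter.style.haveILetI false

namespace Cfsg.Agent.H150

open Module Cfsg
open Cfsg.Agent.LieClassical.OrthCount

variable {F : Type*} [Field F] {V : Type*} [AddCommGroup V] [Module F V] {W : Type*} [AddCommGroup W] [Module F W]

theorem og_pow_apply {Q : QuadraticForm F V} (g : OG Q) (T : V →ₗ[F] V) (h : ∀ v, (g : V ≃ₗ[F] V) v = T v) (j : ℕ)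
    (v : V) : ((g ^ j : OG Q) : V ≃ₗ[F] V) v = (T ^ j) v := by
  induction j generalizing v with
  | zero => rw [pow_zero, pow_zero]; rfl
  | succ j ih =>
    rw [pow_succ, pow_succ, Module.End.mul_apply, ← h]
    exact ih _

theorem og_pow_eq_one_iff {Q : QuadraticForm F V} (g : OG Q) (T : V →ₗ[F] V) (h : ∀ v, (g : V ≃ₗ[F] V) v = T v)
    (j : ℕ) : g ^ j = 1 ↔ T ^ j = 1 := by
  constructor
  · intro hg
    apply LinearMap.ext
    intro v
    rw [← og_pow_apply g T h, hg]
    rfl
  · intro hT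
    apply Subtype.ext
    apply LinearEquiv.ext
    intro v
    rw [og_pow_apply g T h, hT]
    rfl

theorem exists_og (Q : QuadraticForm F V) (T : V →ₗ[F] V) {N : ℕ} (hN : 0 < N) (hT : T ^ N = 1)
    (hQ : ∀ v, Q (T v) = Q v) : ∃ g : OG Q, ∀ v, (g : V ≃ₗ[F] V) v = T v := by
  refine ⟨⟨LinearEquiv.ofLinear T (T ^ (N - 1)) ?_ ?_, ?_⟩, ?_⟩
  · apply LinearMap.ext; intro v
    exact mul_pow_sub_one hN hT v
  · apply LinearMap.ext; intro v
    exact pow_sub_one_mul hN hT v
  · intro v
    exact hQ v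
  · intro v
    rfl

/-- the isometries of an orthogonal sum -/
def prodHom (Q : QuadraticForm F V) (Q' : QuadraticForm F W) : OG Q × OG Q' →* OG (Q.prod Q') where
  toFun p := ⟨LinearEquiv.prodCongr p.1.1 p.2.1, fun v => by
    show Q (p.1.1 v.1) + Q' (p.2.1 v.2) = Q v.1 + Q' v.2
    rw [p.1.2, p.2.2]⟩
  map_one' := by
    apply Subtype.ext
    apply LinearEquiv.ext
    intro v
    rfl
  map_mul' a b := by
    apply Subtype.ext
    apply LinearEquiv.ext
    intro v
    rfl

theorem prodHom_injective (Q : QuadraticForm F V) (Q' : QuadraticForm F W) : Function.Injective (prodHom Q Q') := by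
  intro a b hab
  have h : ∀ v, ((prodHom Q Q' a : OG (Q.prod Q')) : (V × W) ≃ₗ[F] (V × W)) v =
      ((prodHom Q Q' b : OG (Q.prod Q')) : (V × W) ≃ₗ[F] (V × W)) v := fun v => by rw [hab]
  refine Prod.ext (Subtype.ext (LinearEquiv.ext fun v => ?_)) (Subtype.ext (LinearEquiv.ext fun v => ?_))
  · exact congrArg Prod.fst (h (v, 0))
  · exact congrArg Prod.snd (h (0, v))

theorem prod_nd (Q : QuadraticForm F V) (Q' : QuadraticForm F W) (hQ : ND Q) (hQ' : ND Q') : ND (Q.prod Q') := by
  have hp : ∀ x y : V × W, QuadraticMap.polar (⇑(Q.prod Q')) x y =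
      QuadraticMap.polar Q x.1 y.1 + QuadraticMap.polar Q' x.2 y.2 := by
    intro x y
    simp only [QuadraticMap.polar]
    show (Q (x.1 + y.1) + Q' (x.2 + y.2)) - (Q x.1 + Q' x.2) - (Q y.1 + Q' y.2) = _
    ring
  intro x hx
  refine Prod.ext (hQ _ fun y => ?_) (hQ' _ fun y => ?_)
  · have := hx (y, 0)
    rw [hp] at this
    simpa using this
  · have := hx (0, y)
    rw [hp] at this
    simpa using this

theorem orderOf_prodHom (Q : QuadraticForm F V) (Q' : QuadraticForm F W) (p : OG Q × OG Q') :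
    orderOf (prodHom Q Q' p) = (orderOf p.1).lcm (orderOf p.2) := by
  rw [orderOf_injective _ (prodHom_injective Q Q'), Prod.orderOf]

/-- elements of `POmega` from pairs of isometries, odd order -/
theorem exists_pomega_of_prod [Finite F] (h2 : (2 : F) ≠ 0) [FiniteDimensional F V] [FiniteDimensional F W]
    (Q : QuadraticForm F V) (Q' : QuadraticForm F W) (hQ : ND Q) (hQ' : ND Q') {n : ℕ} (hn : 1 ≤ n)
    (hd : finrank F V + finrank F W = 2 * n + 1) (a : OG Q) (b : OG Q')
    (hab : prodHom Q Q' (a, b) ∈ commutator (OG (Q.prod Q'))) :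
    ∃ g : POmega F (quadFormOdd n F), orderOf g = (orderOf a).lcm (orderOf b) := by
  obtain ⟨e⟩ := nonempty_pomega h2 (Q.prod Q') (prod_nd Q Q' hQ hQ') hn (by rw [Module.finrank_prod, hd])
  refine ⟨e ⟨_, hab⟩, ?_⟩
  rw [MulEquiv.orderOf_eq, ← orderOf_prodHom Q Q' (a, b)]
  exact (Subgroup.orderOf_mk _ _)

end Cfsg.Agent.H150
end
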