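import Mathlib
import Cfsg.Agent.H150.SpForm
import Cfsg.Agent.S0245
set_option linter.all false

/-!
# Elements of `Sp` with prescribed orders (helper150)
-/

set_option autoImplicit false
set_option linter.style.haveILetI false

namespace Cfsg.Agent.H150

open Module Cfsg
open Cfsg.Agent.ClassicalGeometry.SympBasic Cfsg.Agent.ClassicalGeometry.SympIso

variable {F : Type*} [Field F]

theorem spLin_pow_eq_one_iff {m : ℕ} (A : Matrix.symplecticGroup (Fin m) F) (j : ℕ) :
    (spLin A) ^ j = 1 ↔ A ^ j = 1 := by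
  unfold spLin
  rw [← map_pow]
  constructor
  · intro h
    apply Subtype.ext
    rw [SubmonoidClass.coe_pow]
    apply (Matrix.toLinAlgEquiv' (R := F)).injective
    rw [h]
    exact (map_one _).symm
  · intro h
    have := congrArg Subtype.val h
    rw [SubmonoidClass.coe_pow] at this
    rw [this]
    exact map_one _

/-- a transvection of `Sp_2` -/
theorem exists_transv (p : ℕ) [Fact p.Prime] [CharP F p] {m : ℕ} (hm : 1 ≤ m) :
    ∃ t : Matrix.symplecticGroup (Fin m) F, (∀ j : ℕ, (spLin t) ^ j = 1 ↔ p ∣ j) ∧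
      ∃ v : Fin m ⊕ Fin m → F, v ≠ 0 ∧ spLin t v = v := by
  let v : Fin m ⊕ Fin m → F := Pi.single (Sum.inl ⟨0, hm⟩) 1
  have hv0 : v ≠ 0 := by
    intro h
    have := congrFun h (Sum.inl ⟨0, hm⟩)
    simp [v] at this
  have hpow : ∀ j : ℕ, (transv v (1 : F)) ^ j = transv v (j : F) := by
    intro j
    induction j with
    | zero =>
      rw [pow_zero, Nat.cast_zero]
      apply Subtype.ext
      rw [coe_transv, sympTransvection_zero]
      rfl
    | succ j ih =>
      rw [pow_succ, ih]
      apply Subtype.ext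
      rw [Submonoid.coe_mul, coe_transv, coe_transv, coe_transv, sympTransvection_mul]
      push_cast
      rfl
  refine ⟨transv v 1, fun j => ?_, v, hv0, ?_⟩
  · rw [spLin_pow_eq_one_iff, hpow, ← CharP.cast_eq_zero_iff F p]
    constructor
    · intro h
      have h1 := congrArg Subtype.val h
      rw [coe_transv] at h1
      obtain ⟨x, hx⟩ : ∃ x, sympForm m F x v ≠ 0 := by
        by_contra hcon
        push Not at hcon
        exact hv0 (eq_zero_of_forall_sympForm_left hcon)
      have h2 := sympTransvection_mulVec v x (j : F)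
      rw [h1] at h2
      have h3 : (1 : Matrix (Fin m ⊕ Fin m) (Fin m ⊕ Fin m) F).mulVec x = x := Matrix.one_mulVec x
      change (1 : Matrix (Fin m ⊕ Fin m) (Fin m ⊕ Fin m) F).mulVec x = _ at h2
      rw [h3] at h2
      have h4 : ((j : F) * sympForm m F x v) • v = 0 := by
        have := congrArg (fun z => z - x) h2
        simpa using this.symm
      have h5 := (smul_eq_zero.1 h4).resolve_right hv0
      exact (mul_eq_zero.1 h5).resolve_right hx
    · intro h
      rw [h]
      apply Subtype.ext
      rw [coe_transv, sympTransvection_zero]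
      rfl
  · show (sympTransvection m v (1 : F)).mulVec v = v
    rw [sympTransvection_mulVec, sympForm_self, mul_zero, zero_smul, add_zero]

/-- `r` divides `|Sp_{2m}(q)|` -/
theorem dvd_card_sp [Fintype F] {r k ηk m : ℕ} (hk : Fintype.card F ^ k ≡ 1 [MOD r])
    (h2 : k ∣ 2 * ηk) (hη : 1 ≤ ηk) (hηm : ηk ≤ m) : r ∣ Nat.card (Matrix.symplecticGroup (Fin m) F) := by
  rw [Cfsg.Agent.S0245.result (F := F) rfl m]
  refine dvd_mul_of_dvd_right (dvd_trans ?_ (Finset.dvd_prod_of_mem _
    (Finset.mem_range.2 (show ηk - 1 < m by omega)))) _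
  have h3 : ηk - 1 + 1 = ηk := by omega
  rw [h3]
  obtain ⟨a, ha⟩ := h2
  rw [ha, pow_mul]
  have h4 : (Fintype.card F ^ k) ^ a ≡ 1 [MOD r] := by
    have := hk.pow a
    rwa [one_pow] at this
  exact (Nat.modEq_iff_dvd' (Nat.one_le_pow _ _ (Nat.pow_pos Fintype.card_pos))).1 h4.symm

/-- elements of order `r s` in `PSp_{2(a+b)}` from elements of `Sp_{2a}`, `Sp_{2b}` -/
theorem exists_psp_of_prod {a b : ℕ} (ha : 1 ≤ a) (S : Matrix.symplecticGroup (Fin a) F)
    (T : Matrix.symplecticGroup (Fin b) F) {N : ℕ}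
    (h : ∀ j : ℕ, (((spLin S) ^ j = 1 ∧ (spLin T) ^ j = 1) ∨ ((spLin S) ^ j = -1 ∧ (spLin T) ^ j = -1)) ↔ N ∣ j) :
    ∃ g : PSp (a + b) F, orderOf g = N := by
  refine exists_psp (by omega) (V := (Fin a ⊕ Fin a → F) × (Fin b ⊕ Fin b → F))
    (sumForm (sympBilin a F) (sympBilin b F)) ?_ ?_ ?_ ((spLin S).prodMap (spLin T)) ?_ N ?_
  · intro x
    rw [sumForm_apply, sympBilin_apply, sympBilin_apply, sympForm_self, sympForm_self, add_zero]
  · exact sumForm_nondeg _ _ (fun u hu => eq_zero_of_forall_sympForm_right hu)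
      (fun u hu => eq_zero_of_forall_sympForm_right hu)
  · rw [Module.finrank_prod]
    simp
    ring
  · intro x y
    rw [sumForm_apply, sumForm_apply]
    show sympBilin a F (spLin S x.1) (spLin S y.1) + sympBilin b F (spLin T x.2) (spLin T y.2) = _
    rw [spLin_isom, spLin_isom]
  · intro j
    rw [← h, prodMap_pow]
    have e1 : ∀ (P : Module.End F (Fin a ⊕ Fin a → F)) (Q : Module.End F (Fin b ⊕ Fin b → F)),
        (P.prodMap Q = (1 : Module.End F ((Fin a ⊕ Fin a → F) × (Fin b ⊕ Fin b → F)))) ↔ (P = 1 ∧ Q = 1) := by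
      intro P Q
      constructor
      · intro hPQ
        constructor
        · apply LinearMap.ext; intro x
          exact congrArg Prod.fst (LinearMap.congr_fun hPQ (x, 0))
        · apply LinearMap.ext; intro x
          exact congrArg Prod.snd (LinearMap.congr_fun hPQ (0, x))
      · rintro ⟨rfl, rfl⟩
        rfl
    have e2 : ∀ (P : Module.End F (Fin a ⊕ Fin a → F)) (Q : Module.End F (Fin b ⊕ Fin b → F)),
        (P.prodMap Q = (-1 : Module.End F ((Fin a ⊕ Fin a → F) × (Fin b ⊕ Fin b → F)))) ↔ (P = -1 ∧ Q = -1) := by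
      intro P Q
      constructor
      · intro hPQ
        constructor
        · apply LinearMap.ext; intro x
          exact congrArg Prod.fst (LinearMap.congr_fun hPQ (x, 0))
        · apply LinearMap.ext; intro x
          exact congrArg Prod.snd (LinearMap.congr_fun hPQ (0, x))
      · rintro ⟨rfl, rfl⟩
        rfl
    rw [e1, e2]

end Cfsg.Agent.H150
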