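import Mathlib
import Cfsg.Agent.H150.OrthProd
import Cfsg.Agent.H150.SpExist
import Cfsg.Agent.S0286
set_option linter.all false

-- part: H150/SpOmega
section
/-!
# Elements of order `r s` in `PSp_{2n}(q)` and `PΩ_{2n+1}(q)`, `r, s` odd (helper150)
-/

set_option autoImplicit false
set_option linter.style.haveILetI false

namespace Cfsg.Agent.H150

open Module Cfsg
open Cfsg.Agent.LieClassical.OrthCount Cfsg.Agent.LieClassical.OmegaReindex
open Cfsg.Agent.ClassicalGeometry.SympBasic Cfsg.Agent.ClassicalGeometry.SympIso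

variable {F : Type*} [Field F]

/-- An isometry `T` of a symplectic space gives an element of `Sp`. -/
theorem exists_sp {m : ℕ} {V : Type*} [AddCommGroup V] [Module F V] [FiniteDimensional F V]
    (B : LinearMap.BilinForm F V) (hA : B.IsAlt) (hnd : ∀ u, (∀ v, B u v = 0) → u = 0)
    (hk : finrank F V = 2 * m) (T : V →ₗ[F] V) (hT : ∀ x y, B (T x) (T y) = B x y) :
    ∃ g : Matrix.symplecticGroup (Fin m) F, ∀ j : ℕ, g ^ j = 1 ↔ T ^ j = 1 := by
  obtain ⟨e, he⟩ := exists_linearEquiv_sympForm B hA hnd hk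
  let φ : Module.End F V ≃ₐ[F] Matrix (Fin m ⊕ Fin m) (Fin m ⊕ Fin m) F :=
    (e.symm.conjAlgEquiv F).trans LinearMap.toMatrixAlgEquiv'
  have hφ : ∀ x, (φ T).mulVec x = e.symm (T (e x)) := by
    intro x
    show (LinearMap.toMatrix' (e.symm.conj T)).mulVec x = _
    rw [LinearMap.toMatrix'_mulVec]
    rfl
  have hmem : φ T ∈ Matrix.symplecticGroup (Fin m) F := by
    rw [mem_symplecticGroup_iff]
    intro x y
    rw [hφ, hφ, ← he, ← he, e.apply_symm_apply, e.apply_symm_apply, hT]
  refine ⟨⟨φ T, hmem⟩, fun j => ?_⟩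
  constructor
  · intro h
    have h1 := congrArg Subtype.val h
    rw [SubmonoidClass.coe_pow] at h1
    change (φ T) ^ j = 1 at h1
    rw [← map_pow] at h1
    apply φ.injective
    rw [h1, map_one]
  · intro h
    apply Subtype.ext
    rw [SubmonoidClass.coe_pow]
    show (φ T) ^ j = 1
    rw [← map_pow, h, map_one]

theorem nd_quadOdd (h2 : (2 : F) ≠ 0) (m : ℕ) : ND (quadOdd m F) := by
  intro x hx
  exact (quadOdd_nondegenerate (m := m) h2).1 x hx

theorem card_O_eq [Fintype F] (h2 : (2 : F) ≠ 0) (m : ℕ) :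
    Nat.card (OG (quadOdd m F)) = 2 * Nat.card (Matrix.symplecticGroup (Fin m) F) := by
  have hodd : Odd (Fintype.card F) := by
    rw [← Nat.not_even_iff_odd]
    intro he
    have := (FiniteField.even_card_iff_char_two (F := F)).2 (Nat.even_iff.1 he)
    apply h2
    have h3 := ringChar.Nat.cast_ringChar (R := F)
    rw [this] at h3
    exact_mod_cast h3
  rw [← Nat.card_congr (isometryGroupEquiv (quadOdd m F)).toEquiv, coe_quadOdd,
    Cfsg.Agent.S0286.result rfl hodd m, Cfsg.Agent.S0245.result (F := F) rfl m, mul_assoc]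

theorem restrict_pow_eq_one {V : Type*} [AddCommGroup V] [Module F V] {T : V →ₗ[F] V} {M : Submodule F V}
    (h : ∀ v ∈ M, T v ∈ M) {N : ℕ} (hT : T ^ N = 1) : (T.restrict h) ^ N = 1 := by
  ext v
  rw [Module.End.pow_restrict]
  simp only [hT]
  rfl

theorem finrank_quadOdd (m : ℕ) : finrank F (Unit ⊕ (Fin m ⊕ Fin m) → F) = 2 * m + 1 := by
  simp
  ring

/-- the basic data of the decomposition -/
theorem range_inv {V : Type*} [AddCommGroup V] [Module F V] {x y : V →ₗ[F] V} (hxy : ∀ v, x (y v) = y (x v)) :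
    (∀ v ∈ LinearMap.range (x - 1), y v ∈ LinearMap.range (x - 1)) ∧
    (∀ v ∈ LinearMap.ker (x - 1), y v ∈ LinearMap.ker (x - 1)) := by
  constructor
  · rintro _ ⟨v, rfl⟩
    refine ⟨y v, ?_⟩
    rw [LinearMap.sub_apply, LinearMap.sub_apply x 1 v, map_sub, hxy]
    rfl
  · intro v hv
    rw [LinearMap.mem_ker, LinearMap.sub_apply, Module.End.one_apply, sub_eq_zero] at hv ⊢
    rw [hxy, hv]

/-- an endomorphism that is trivial on both parts of the decomposition is trivial -/
theorem eq_one_of_restrict {V : Type*} [AddCommGroup V] [Module F V] {C M : Submodule F V} (h : IsCompl C M)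
    {y : V →ₗ[F] V} (hC : ∀ v ∈ C, y v = v) (hM : ∀ v ∈ M, y v = v) : y = 1 := by
  apply LinearMap.ext
  intro v
  obtain ⟨a, ha, b, hb, rfl⟩ := Submodule.mem_sup.1
    (show v ∈ C ⊔ M by rw [h.sup_eq_top]; trivial)
  rw [map_add, hC a ha, hM b hb]
  rfl

theorem exists_order_odd [Finite F] (h2 : (2 : F) ≠ 0) {c s : ℕ} (hs : s.Prime)
    (h : s ∣ Nat.card (Matrix.symplecticGroup (Fin c) F)) : ∃ z : OG (quadOdd c F), orderOf z = s := by
  have : Fintype F := Fintype.ofFinite F
  have : Fact s.Prime := ⟨hs⟩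
  haveI : Finite (OG (quadOdd c F)) := Finite.of_equiv _ (isometryGroupEquiv (quadOdd c F)).toEquiv
  refine exists_prime_orderOf_dvd_card' s ?_
  rw [card_O_eq h2]
  exact dvd_mul_of_dvd_right h _

/-- **`Sp → Ω`**, two odd primes -/
theorem sp_to_omega [Finite F] (h2 : (2 : F) ≠ 0) {V : Type*} [AddCommGroup V] [Module F V] [FiniteDimensional F V]
    {n : ℕ} (hn : 1 ≤ n) (B : LinearMap.BilinForm F V)
    (hA : B.IsAlt) (hnd : ∀ u, (∀ v, B u v = 0) → u = 0) (hdim : finrank F V = 2 * n)
    {r s : ℕ} (hr : r.Prime) (hr2 : r ≠ 2) (hrF : (r : F) ≠ 0) (hs : s.Prime) (hs2 : s ≠ 2) (hrs : r ≠ s)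
    (x y : V →ₗ[F] V) (hcomm : Commute x y) (hx : x ^ r = 1) (hx1 : x ≠ 1) (hy : y ^ s = 1) (hy1 : y ≠ 1)
    (hxB : ∀ v w, B (x v) (x w) = B v w) (hyB : ∀ v w, B (y v) (y w) = B v w) :
    ∃ g : POmega F (quadFormOdd n F), orderOf g = r * s := by
  have hrodd : Odd r := hr.odd_of_ne_two hr2
  have hsodd : Odd s := hs.odd_of_ne_two hs2
  have hcop : Nat.Coprime r s := (Nat.coprime_primes hr hs).2 hrs
  have hxy : ∀ v, x (y v) = y (x v) := fun v => LinearMap.congr_fun hcomm.eq v
  have hxx : ∀ v, x (x v) = x (x v) := fun v => rfl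
  set C := LinearMap.ker (x - 1) with hC
  set M := LinearMap.range (x - 1) with hM
  have hcompl : IsCompl C M := isCompl_fix hrF x hx
  have hsum := Submodule.finrank_add_eq_of_isCompl hcompl
  have hfpf : ∀ v ∈ M, x v = v → v = 0 := fpf_range hrF x hx
  have hyM := (range_inv hxy).1
  have hyC := (range_inv hxy).2
  have hxM := (range_inv hxx).1
  have hMB : ∀ u : M, (∀ v : M, B u v = 0) → u = 0 := fun u hu => nondeg_range hrF B hnd x hx hxB u hu
  have hCB : ∀ u : C, (∀ v : C, B u v = 0) → u = 0 := fun u hu => nondeg_ker hrF B hnd x hx hxB u hu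
  obtain ⟨a, ha⟩ := (even_finrank_of_alt (B.restrict M) (fun z => hA _) hMB).two_dvd
  obtain ⟨c, hc⟩ := (even_finrank_of_alt (B.restrict C) (fun z => hA _) hCB).two_dvd
  have hM0 : M ≠ ⊥ := by
    intro h
    rw [hM, LinearMap.range_eq_bot, sub_eq_zero] at h
    exact hx1 h
  set xM : M →ₗ[F] M := x.restrict hxM with hxMdef
  set yM : M →ₗ[F] M := y.restrict hyM with hyMdef
  have hxM1 : xM ^ r = 1 := restrict_pow_eq_one hxM hx
  have hyM1 : yM ^ s = 1 := restrict_pow_eq_one hyM hy
  have hxMf : ∀ v : M, xM v = v → v = 0 := by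
    intro v hv
    apply Subtype.ext
    exact hfpf v v.2 (congrArg Subtype.val hv)
  have hxMne : xM ≠ 1 := by
    intro h
    obtain ⟨v, hv, hv0⟩ := (Submodule.ne_bot_iff _).1 hM0
    have := hxMf ⟨v, hv⟩ (by rw [h]; rfl)
    exact hv0 (congrArg Subtype.val this)
  have hxMB : ∀ v w : M, B.restrict M (xM v) (xM w) = B.restrict M v w := fun v w => hxB v w
  have hyMB : ∀ v w : M, B.restrict M (yM v) (yM w) = B.restrict M v w := fun v w => hyB v w
  have hxMyM : ∀ v : M, xM (yM v) = yM (xM v) := fun v => Subtype.ext (hxy v)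
  have hcM : Commute xM yM := LinearMap.ext hxMyM
  -- the quadratic form on `M`
  set Q := symQuad (B.restrict M) xM with hQ
  have hQnd : ND Q := fun u hu => symQuad_nd (B.restrict M) (fun z => hA _) hMB hrodd xM hxMB hxM1 hxMf u hu
  have : Fact r.Prime := ⟨hr⟩
  have : Fact s.Prime := ⟨hs⟩
  have hox : orderOf xM = r := orderOf_eq_prime hxM1 hxMne
  have hd : finrank F M + finrank F (Unit ⊕ (Fin c ⊕ Fin c) → F) = 2 * n + 1 := by
    rw [finrank_quadOdd]
    omega
  have hdle : 2 ≤ finrank F (M × (Unit ⊕ (Fin c ⊕ Fin c) → F)) := by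
    rw [Module.finrank_prod, hd]
    omega
  have hrs0 : 0 < r * s := Nat.mul_pos hr.pos hs.pos
  by_cases hyMne : yM = 1
  · -- `y` acts on `C`
    have hyCne : ¬ ∀ v ∈ C, y v = v := by
      intro h
      apply hy1
      refine eq_one_of_restrict hcompl h ?_
      intro v hv
      have := LinearMap.congr_fun hyMne ⟨v, hv⟩
      exact congrArg Subtype.val this
    obtain ⟨g, hg⟩ := exists_sp (m := c) (B.restrict C) (fun z => hA _) hCB hc (y.restrict hyC)
      (fun v w => hyB v w)
    have hgs : orderOf g = s := by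
      refine orderOf_eq_prime ((hg s).2 (restrict_pow_eq_one hyC hy)) ?_
      intro h
      rw [← pow_one g, hg 1, pow_one] at h
      apply hyCne
      intro v hv
      exact congrArg Subtype.val (LinearMap.congr_fun h ⟨v, hv⟩)
    haveI : Finite (Matrix.symplecticGroup (Fin c) F) := inferInstance
    obtain ⟨z, hz⟩ := exists_order_odd (F := F) h2 hs (c := c) (by
      rw [← hgs]; exact orderOf_dvd_natCard g)
    obtain ⟨t, ht⟩ := exists_og Q xM hr.pos hxM1 (fun v => symQuad_map _ xM xM hxMB (fun v => rfl) v)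
    have hto : orderOf t = r := by
      refine orderOf_eq_prime ((og_pow_eq_one_iff t xM ht r).2 hxM1) ?_
      intro h
      rw [← pow_one t, og_pow_eq_one_iff t xM ht, pow_one] at h
      exact hxMne h
    have hmem : prodHom Q (quadOdd c F) (t, z) ∈ commutator (OG (Q.prod (quadOdd c F))) := by
      refine odd_mem_commutator h2 (Q.prod (quadOdd c F)) (prod_nd _ _ hQnd (nd_quadOdd h2 c)) hdle _
        (hrodd.mul hsodd) ?_
      rw [← map_pow, Prod.pow_mk, pow_mul, ← hto, pow_orderOf_eq_one, one_pow, mul_comm, pow_mul, ← hz,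
        pow_orderOf_eq_one, one_pow]
      exact map_one _
    obtain ⟨g, hg⟩ := exists_pomega_of_prod h2 Q (quadOdd c F) hQnd (nd_quadOdd h2 c) hn hd t z hmem
    exact ⟨g, by rw [hg, hto, hz, hcop.lcm_eq_mul]⟩
  · have hoy : orderOf yM = s := orderOf_eq_prime hyM1 hyMne
    have ho : orderOf (xM * yM) = r * s := by
      rw [hcM.orderOf_mul_eq_mul_orderOf_of_coprime (by rw [hox, hoy]; exact hcop), hox, hoy]
    have hpow : (xM * yM) ^ (r * s) = 1 := by rw [← ho, pow_orderOf_eq_one]
    obtain ⟨t, ht⟩ := exists_og Q (xM * yM) hrs0 hpow (fun v => by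
      rw [Module.End.mul_apply, hQ, symQuad_map _ xM xM hxMB (fun v => rfl), symQuad_map _ xM yM hyMB hxMyM])
    have hto : orderOf t = r * s := by
      rw [← ho]
      exact orderOf_eq_of_forall fun j => by
        rw [og_pow_eq_one_iff t _ ht, orderOf_dvd_iff_pow_eq_one]
    have hmem : prodHom Q (quadOdd c F) (t, 1) ∈ commutator (OG (Q.prod (quadOdd c F))) := by
      refine odd_mem_commutator h2 (Q.prod (quadOdd c F)) (prod_nd _ _ hQnd (nd_quadOdd h2 c)) hdle _
        (hrodd.mul hsodd) ?_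
      rw [← map_pow, Prod.pow_mk, ← hto, pow_orderOf_eq_one, one_pow]
      exact map_one _
    obtain ⟨g, hg⟩ := exists_pomega_of_prod h2 Q (quadOdd c F) hQnd (nd_quadOdd h2 c) hn hd t 1 hmem
    exact ⟨g, by rw [hg, hto, orderOf_one, Nat.lcm_one_right]⟩

end Cfsg.Agent.H150
end

-- part: H150/OmegaSp
section
/-!
# From `PΩ_{2n+1}(q)` to `PSp_{2n}(q)`: elements of order `r s`, `r, s` odd (helper150)
-/

set_option autoImplicit false
set_option linter.style.haveILetI false

namespace Cfsg.Agent.H150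

open Module Cfsg
open Cfsg.Agent.LieClassical.OrthCount Cfsg.Agent.LieClassical.OmegaReindex
open Cfsg.Agent.ClassicalGeometry.SympBasic Cfsg.Agent.ClassicalGeometry.SympIso

variable {F : Type*} [Field F]

theorem neg_one_ne_one_end (h2 : (2 : F) ≠ 0) {V : Type*} [AddCommGroup V] [Module F V] [Nontrivial V] :
    (-1 : Module.End F V) ≠ 1 := by
  intro h
  obtain ⟨v, hv⟩ := exists_ne (0 : V)
  have h1 := LinearMap.congr_fun h v
  rw [LinearMap.neg_apply, Module.End.one_apply] at h1
  have h4 : (2 : F) • v = 0 := by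
    rw [two_smul]
    nth_rewrite 1 [← h1]
    exact neg_add_cancel v
  exact h2 ((smul_eq_zero.1 h4).resolve_right hv)

/-- an element of odd order: `T ^ j = ±1` only if `T ^ j = 1` -/
theorem pow_eq_neg_one_false (h2 : (2 : F) ≠ 0) {V : Type*} [AddCommGroup V] [Module F V] [Nontrivial V]
    {T : Module.End F V} {N : ℕ} (hN : Odd N) (hT : T ^ N = 1) (j : ℕ) (h : T ^ j = -1) : False := by
  have h1 : (T ^ j) ^ N = 1 := by rw [← pow_mul, mul_comm, pow_mul, hT, one_pow]
  rw [h, hN.neg_one_pow] at h1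
  exact neg_one_ne_one_end h2 h1

theorem prodMap_eq_one_iff {V W : Type*} [AddCommGroup V] [Module F V] [AddCommGroup W] [Module F W]
    (P : Module.End F V) (Q : Module.End F W) :
    P.prodMap Q = (1 : Module.End F (V × W)) ↔ (P = 1 ∧ Q = 1) := by
  constructor
  · intro hPQ
    constructor
    · apply LinearMap.ext; intro x
      exact congrArg Prod.fst (LinearMap.congr_fun hPQ (x, 0))
    · apply LinearMap.ext; intro x
      exact congrArg Prod.snd (LinearMap.congr_fun hPQ (0, x))
  · rintro ⟨rfl, rfl⟩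
    rfl

theorem prodMap_eq_neg_one_iff {V W : Type*} [AddCommGroup V] [Module F V] [AddCommGroup W] [Module F W]
    (P : Module.End F V) (Q : Module.End F W) :
    P.prodMap Q = (-1 : Module.End F (V × W)) ↔ (P = -1 ∧ Q = -1) := by
  constructor
  · intro hPQ
    constructor
    · apply LinearMap.ext; intro x
      exact congrArg Prod.fst (LinearMap.congr_fun hPQ (x, 0))
    · apply LinearMap.ext; intro x
      exact congrArg Prod.snd (LinearMap.congr_fun hPQ (0, x))
  · rintro ⟨rfl, rfl⟩
    rfl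

/-- elements of `PSp` from isometries of orthogonal sums -/
theorem exists_psp_sum {V : Type*} [AddCommGroup V] [Module F V] [FiniteDimensional F V]
    {n c : ℕ} (hn : 1 ≤ n) (B : LinearMap.BilinForm F V) (hA : B.IsAlt) (hnd : ∀ u, (∀ v, B u v = 0) → u = 0)
    (hd : finrank F V + 2 * c = 2 * n) (S : V →ₗ[F] V) (T : (Fin c ⊕ Fin c → F) →ₗ[F] (Fin c ⊕ Fin c → F))
    (hS : ∀ v w, B (S v) (S w) = B v w) (hT : ∀ v w, sympBilin c F (T v) (T w) = sympBilin c F v w)
    {N : ℕ} (h : ∀ j : ℕ, ((S ^ j = 1 ∧ T ^ j = 1) ∨ (S ^ j = -1 ∧ T ^ j = -1)) ↔ N ∣ j) :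
    ∃ g : PSp n F, orderOf g = N := by
  refine exists_psp hn (V := V × (Fin c ⊕ Fin c → F))
    (sumForm B (sympBilin c F)) ?_ ?_ ?_ (S.prodMap T) ?_ N ?_
  · intro x
    rw [sumForm_apply, sympBilin_apply, sympForm_self, hA, add_zero]
  · exact sumForm_nondeg _ _ hnd (fun u hu => eq_zero_of_forall_sympForm_right hu)
  · rw [Module.finrank_prod]
    simp
    omega
  · intro x y
    rw [sumForm_apply, sumForm_apply]
    show B (S x.1) (S y.1) + sympBilin c F (T x.2) (T y.2) = _
    rw [hS, hT]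
  · intro j
    rw [← h, prodMap_pow, prodMap_eq_one_iff, prodMap_eq_neg_one_iff]

/-- the data of the decomposition `V = C ⊕ M` in the orthogonal case -/
theorem orth_data {V : Type*} [AddCommGroup V] [Module F V] [FiniteDimensional F V]
    {n : ℕ} (Q : QuadraticForm F V) (hQ : ND Q) (hd : finrank F V = 2 * n + 1)
    {r : ℕ} (hrodd : Odd r) (hrF : (r : F) ≠ 0) (x : V →ₗ[F] V) (hx : x ^ r = 1) (hxQ : ∀ v, Q (x v) = Q v)
    (hxM : ∀ v ∈ LinearMap.range (x - 1), x v ∈ LinearMap.range (x - 1)) :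
    ∃ c : ℕ, finrank F (LinearMap.range (x - 1)) + 2 * c = 2 * n ∧
      finrank F (LinearMap.ker (x - 1)) = 2 * c + 1 ∧
      ND (Q.comp (LinearMap.ker (x - 1)).subtype) ∧
      ND (Q.comp (LinearMap.range (x - 1)).subtype) ∧
      (quadSym (Q.comp (LinearMap.range (x - 1)).subtype) (x.restrict hxM) r).IsAlt ∧
      (∀ u, (∀ v, quadSym (Q.comp (LinearMap.range (x - 1)).subtype) (x.restrict hxM) r u v = 0) → u = 0) ∧
      (∀ v : LinearMap.range (x - 1), x.restrict hxM v = v → v = 0) := by
  have hcompl := isCompl_fix hrF x hx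
  have hsum := Submodule.finrank_add_eq_of_isCompl hcompl
  have hB : ∀ v w, QuadraticMap.polarBilin Q (x v) (x w) = QuadraticMap.polarBilin Q v w :=
    fun v w => polar_isom Q x hxQ v w
  have hp : ∀ (U : Submodule F V) (v w : U), QuadraticMap.polar (⇑(Q.comp U.subtype)) v w =
      QuadraticMap.polar Q (v : V) (w : V) := fun U v w => rfl
  have hC : ND (Q.comp (LinearMap.ker (x - 1)).subtype) := by
    intro u hu
    exact nondeg_ker hrF (QuadraticMap.polarBilin Q) (fun u hu => hQ u hu) x hx hB u (fun v => hu v)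
  have hM : ND (Q.comp (LinearMap.range (x - 1)).subtype) := by
    intro u hu
    exact nondeg_range hrF (QuadraticMap.polarBilin Q) (fun u hu => hQ u hu) x hx hB u (fun v => hu v)
  have hfpf : ∀ v : LinearMap.range (x - 1), x.restrict hxM v = v → v = 0 := by
    intro v hv
    apply Subtype.ext
    exact fpf_range hrF x hx v v.2 (congrArg Subtype.val hv)
  have hxM1 : (x.restrict hxM) ^ r = 1 := restrict_pow_eq_one hxM hx
  have halt : (quadSym (Q.comp (LinearMap.range (x - 1)).subtype) (x.restrict hxM) r).IsAlt :=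
    quadSym_alt _ hrodd.pos _ (fun v => hxQ v) hxM1
  have hnd : ∀ u, (∀ v, quadSym (Q.comp (LinearMap.range (x - 1)).subtype) (x.restrict hxM) r u v = 0) → u = 0 :=
    fun u hu => quadSym_nd _ (fun u hu => hM u hu) hrodd _ hxM1 hfpf u hu
  obtain ⟨a, ha⟩ := (even_finrank_of_alt _ halt hnd).two_dvd
  refine ⟨n - a, by omega, by omega, hC, hM, halt, hnd, hfpf⟩

/-- **`Ω → Sp`**, two odd primes -/
theorem omega_to_sp [Finite F] (h2 : (2 : F) ≠ 0) {V : Type*} [AddCommGroup V] [Module F V] [FiniteDimensional F V]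
    {n : ℕ} (hn : 1 ≤ n) (Q : QuadraticForm F V) (hQ : ND Q) (hdim : finrank F V = 2 * n + 1)
    {r s : ℕ} (hr : r.Prime) (hr2 : r ≠ 2) (hrF : (r : F) ≠ 0) (hs : s.Prime) (hs2 : s ≠ 2) (hrs : r ≠ s)
    (x y : V →ₗ[F] V) (hcomm : Commute x y) (hx : x ^ r = 1) (hx1 : x ≠ 1) (hy : y ^ s = 1) (hy1 : y ≠ 1)
    (hxQ : ∀ v, Q (x v) = Q v) (hyQ : ∀ v, Q (y v) = Q v) :
    ∃ g : PSp n F, orderOf g = r * s := by
  have hrodd : Odd r := hr.odd_of_ne_two hr2
  have hsodd : Odd s := hs.odd_of_ne_two hs2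
  have hcop : Nat.Coprime r s := (Nat.coprime_primes hr hs).2 hrs
  have hxy : ∀ v, x (y v) = y (x v) := fun v => LinearMap.congr_fun hcomm.eq v
  have hxx : ∀ v, x (x v) = x (x v) := fun v => rfl
  have hyM := (range_inv hxy).1
  have hyC := (range_inv hxy).2
  have hxM := (range_inv hxx).1
  obtain ⟨c, hc1, hc2, hCnd, hMnd, halt, hnd, hfpf⟩ := orth_data Q hQ hdim hrodd hrF x hx hxQ hxM
  have hcompl := isCompl_fix hrF x hx
  set C := LinearMap.ker (x - 1) with hC
  set M := LinearMap.range (x - 1) with hM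
  set QM := Q.comp M.subtype with hQM
  have hM0 : M ≠ ⊥ := by
    intro h
    rw [hM, LinearMap.range_eq_bot, sub_eq_zero] at h
    exact hx1 h
  haveI : Nontrivial M := Submodule.nontrivial_iff_ne_bot.2 hM0
  set xM : M →ₗ[F] M := x.restrict hxM with hxMdef
  set yM : M →ₗ[F] M := y.restrict hyM with hyMdef
  have hxM1 : xM ^ r = 1 := restrict_pow_eq_one hxM hx
  have hyM1 : yM ^ s = 1 := restrict_pow_eq_one hyM hy
  have hxMne : xM ≠ 1 := by
    intro h
    obtain ⟨v, hv, hv0⟩ := (Submodule.ne_bot_iff _).1 hM0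
    have := hfpf ⟨v, hv⟩ (by rw [h]; rfl)
    exact hv0 (congrArg Subtype.val this)
  have hxMyM : ∀ v : M, xM (yM v) = yM (xM v) := fun v => Subtype.ext (hxy v)
  have hcM : Commute xM yM := LinearMap.ext hxMyM
  have hxMB : ∀ v w, quadSym QM xM r (xM v) (xM w) = quadSym QM xM r v w :=
    fun v w => quadSym_map QM xM xM r (fun v => hxQ v) (fun v => rfl) v w
  have hyMB : ∀ v w, quadSym QM xM r (yM v) (yM w) = quadSym QM xM r v w :=
    fun v w => quadSym_map QM xM yM r (fun v => hyQ v) hxMyM v w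
  have : Fact r.Prime := ⟨hr⟩
  have : Fact s.Prime := ⟨hs⟩
  have hox : orderOf xM = r := orderOf_eq_prime hxM1 hxMne
  have hrs0 : 0 < r * s := Nat.mul_pos hr.pos hs.pos
  by_cases hyMne : yM = 1
  · -- `y` acts on `C`
    have hyCne : y.restrict hyC ≠ 1 := by
      intro h
      apply hy1
      refine eq_one_of_restrict hcompl ?_ ?_
      · intro v hv
        exact congrArg Subtype.val (LinearMap.congr_fun h ⟨v, hv⟩)
      · intro v hv
        exact congrArg Subtype.val (LinearMap.congr_fun hyMne ⟨v, hv⟩)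
    have hyC1 : (y.restrict hyC) ^ s = 1 := restrict_pow_eq_one hyC hy
    set QC := Q.comp C.subtype with hQC
    obtain ⟨t, ht⟩ := exists_og QC (y.restrict hyC) hs.pos hyC1 (fun v => hyQ v)
    have hts : t ^ s = 1 := (og_pow_eq_one_iff t _ ht s).2 hyC1
    have hto : orderOf t = s := by
      refine orderOf_eq_prime hts ?_
      intro h
      rw [← pow_one t, og_pow_eq_one_iff t _ ht, pow_one] at h
      exact hyCne h
    have hc0 : 1 ≤ c := by
      rcases Nat.eq_zero_or_pos c with h0 | h0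
      · exfalso
        -- dimension one
        have h1 : finrank F C = 1 := by rw [hc2, h0]
        have : Nontrivial C := Module.nontrivial_of_finrank_pos (R := F) (by omega)
        obtain ⟨v, hv⟩ := exists_ne (0 : C)
        have hspan := (finrank_eq_one_iff_of_nonzero' (K := F) v hv).1 h1
        obtain ⟨b, hb⟩ := hspan ((y.restrict hyC) v)
        have hQv : QC v ≠ 0 := by
          intro h
          apply hv
          apply hCnd
          intro w
          obtain ⟨d, rfl⟩ := hspan w
          rw [QuadraticMap.polar_smul_right, QuadraticMap.polar_self, h]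
          simp
        have hb2 : b * b = 1 := by
          have h3 : QC ((y.restrict hyC) v) = QC v := hyQ v
          rw [← hb, QuadraticMap.map_smul] at h3
          have h4 : (b * b - 1) * QC v = 0 := by
            rw [smul_eq_mul] at h3
            linear_combination h3
          exact sub_eq_zero.1 ((mul_eq_zero.1 h4).resolve_right hQv)
        have hpow : ∀ j : ℕ, ((y.restrict hyC) ^ j) v = b ^ j • v := by
          intro j
          induction j with
          | zero => simp
          | succ j ih =>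
            rw [pow_succ', Module.End.mul_apply, ih, map_smul, ← hb, smul_smul, pow_succ]
        have hbs : b ^ s = 1 := by
          have h5 := hpow s
          rw [hyC1, Module.End.one_apply] at h5
          have h6 : (b ^ s - 1) • v = 0 := by rw [sub_smul, one_smul, ← h5, sub_self]
          exact sub_eq_zero.1 ((smul_eq_zero.1 h6).resolve_right hv)
        have hb1 : b = 1 := by
          rcases mul_self_eq_one_iff.1 hb2 with h | h
          · exact h
          · rw [h, hsodd.neg_one_pow] at hbs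
            rw [h]; exact hbs
        apply hyCne
        apply LinearMap.ext
        intro w
        obtain ⟨d, rfl⟩ := hspan w
        rw [map_smul, ← hb, hb1, one_smul]
        rfl
      · exact h0
    have hdvd : s ∣ Nat.card (Matrix.symplecticGroup (Fin c) F) := by
      have : Fintype F := Fintype.ofFinite F
      have hmem : t ∈ commutator (OG QC) := odd_mem_commutator h2 QC hCnd (by omega) t hsodd hts
      obtain ⟨e1⟩ := nonempty_pomega h2 QC hCnd hc0 hc2
      obtain ⟨e2⟩ := nonempty_pomega h2 (quadOdd c F) (nd_quadOdd h2 c) hc0 (finrank_quadOdd c)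
      have h3 : orderOf (e2.symm (e1 ⟨t, hmem⟩)) = s := by
        rw [MulEquiv.orderOf_eq, MulEquiv.orderOf_eq, Subgroup.orderOf_mk, hto]
      haveI : Finite (OG (quadOdd c F)) := Finite.of_equiv _ (isometryGroupEquiv (quadOdd c F)).toEquiv
      have h4 : s ∣ Nat.card (OG (quadOdd c F)) := by
        rw [← h3, ← Subgroup.orderOf_coe]
        exact orderOf_dvd_natCard _
      rw [card_O_eq h2] at h4
      exact ((hs.dvd_mul).1 h4).resolve_left (fun h => hs2 ((Nat.prime_dvd_prime_iff_eq hs Nat.prime_two).1 h))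
    obtain ⟨z, hz⟩ := exists_prime_orderOf_dvd_card' (G := Matrix.symplecticGroup (Fin c) F) s hdvd
    refine exists_psp_sum hn (quadSym QM xM r) halt hnd hc1 xM (spLin z) hxMB (spLin_isom z) ?_
    intro j
    have h5 : xM ^ j = 1 ↔ r ∣ j := by rw [← hox, orderOf_dvd_iff_pow_eq_one]
    have h6 : (spLin z) ^ j = 1 ↔ s ∣ j := by rw [spLin_pow_eq_one_iff, ← hz, orderOf_dvd_iff_pow_eq_one]
    constructor
    · rintro (⟨h7, h8⟩ | ⟨h7, -⟩)
      · exact hcop.mul_dvd_of_dvd_of_dvd (h5.1 h7) (h6.1 h8)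
      · exact (pow_eq_neg_one_false h2 hrodd hxM1 j h7).elim
    · intro h
      left
      exact ⟨h5.2 ((Dvd.intro _ rfl).trans h), h6.2 ((Dvd.intro_left _ rfl).trans h)⟩
  · have hoy : orderOf yM = s := orderOf_eq_prime hyM1 hyMne
    have ho : orderOf (xM * yM) = r * s := by
      rw [hcM.orderOf_mul_eq_mul_orderOf_of_coprime (by rw [hox, hoy]; exact hcop), hox, hoy]
    have hpow : (xM * yM) ^ (r * s) = 1 := by rw [← ho, pow_orderOf_eq_one]
    refine exists_psp_sum hn (quadSym QM xM r) halt hnd hc1 (xM * yM) 1 ?_ (fun v w => rfl) ?_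
    · intro v w
      rw [Module.End.mul_apply, Module.End.mul_apply, hxMB, hyMB]
    · intro j
      constructor
      · rintro (⟨h7, -⟩ | ⟨h7, -⟩)
        · rw [← ho]
          exact orderOf_dvd_of_pow_eq_one h7
        · exact (pow_eq_neg_one_false h2 (hrodd.mul hsodd) hpow j h7).elim
      · intro h
        left
        refine ⟨?_, one_pow j⟩
        rw [← orderOf_dvd_iff_pow_eq_one, ho]
        exact h

end Cfsg.Agent.H150
end
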