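import Mathlib
import Cfsg.Agent.H732.SelfCentO
import Cfsg.Agent.S0243
import Cfsg.Agent.S2470
import Cfsg.Agent.S2471
import Cfsg.Agent.ClassicalGeometry.PSUAutBasic
import Cfsg.Agent.ClassicalGeometry.HermOrtho
import Cfsg.Agent.LieClassical.HermCount
import Cfsg.Agent.S0280
import Cfsg.Agent.S0822
import Cfsg.Agent.H150.FarE7
import Cfsg.Agent.H129.RealE7_m3
import Cfsg.Agent.H809.SelfCentPSU
import Cfsg.Agent.S2467
import Cfsg.Agent.S2238
import Cfsg.Agent.S0333
import Cfsg.Agent.S1159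
import Cfsg.Agent.OddCyclic.ClaimC.SzIso
import Cfsg.Agent.S2369
import Cfsg.Agent.S1068
import Cfsg.Agent.H393.Iso.All
import Cfsg.Agent.Prune
set_option linter.all false

section
prune_inst 0x7fffebfdbbbe7ddfffff7e7faef9dffc1b939fffe6dff94bffe86bff2bff33980bcdfbaf8de0b0fe1ed6e29410b87853f9fffeffeb6bfc7ffffd5ff41ffbee4ff5f7b50811d090240f342fff83f0778e7f3fffffffffffffffffffffffffffaeffffffffffff

-- part: H150/FarPSUTwo_mg
section
prune_inst 0x40000000000000000000000000000000000000000000000000000000000000000000000000040810000000000000000000000000000000000000000000000000000000000000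
set_option linter.all false
open scoped Cfsg.Agent.FastGrp

-- part: H150/FarPSL
section
/-!
# An odd prime not adjacent to `2`: `PSL_n(q)` (helper150)
-/

set_option autoImplicit false
set_option linter.style.haveILetI false

namespace Cfsg.Agent.H150

open Module Cfsg
open Cfsg.Agent.S2470 (lin det_lin mk_pow_eq_one_iff lin_pow_iff)

variable {F : Type*} [Field F]

/-- the criterion -/
theorem psl_order_ne [Finite F] {n : ℕ} (hn : 1 ≤ n) {r : ℕ} (hr : r.Prime) (hcop : (Nat.card Fˣ).Coprime r)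
    (h : ∀ x y : (Fin n → F) →ₗ[F] (Fin n → F), Commute x y → x ^ r = 1 →
      (∀ a : F, x ≠ a • (1 : Module.End F (Fin n → F))) → LinearMap.det y = 1 →
      ∀ c : F, y ^ 2 = c • (1 : Module.End F (Fin n → F)) → ∃ a : F, y = a • (1 : Module.End F (Fin n → F)))
    (hr2 : r ≠ 2)
    (g : Matrix.ProjectiveSpecialLinearGroup (Fin n) F) : orderOf g ≠ 2 * r := by
  intro hg
  obtain ⟨A, rfl⟩ := QuotientGroup.mk_surjective g
  have hTj : ∀ j, (∃ c : F, (lin A) ^ j = c • (1 : Module.End F (Fin n → F))) ↔ 2 * r ∣ j := by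
    intro j
    rw [← hg, orderOf_dvd_iff_pow_eq_one, mk_pow_eq_one_iff]
    exact exists_congr fun c => (lin_pow_iff A j c).symm
  have hdet := det_lin A
  generalize lin A = T at hTj hdet
  obtain ⟨c, hc⟩ := (hTj (2 * r)).2 dvd_rfl
  have hc0 : c ≠ 0 := by
    rintro rfl
    have h1 : LinearMap.det (T ^ (2 * r)) = 1 := by rw [map_pow, hdet, one_pow]
    rw [hc, zero_smul] at h1
    haveI : Nonempty (Fin n) := ⟨⟨0, hn⟩⟩
    have h3 : LinearMap.det (0 : Module.End F (Fin n → F)) = 0 := by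
      rw [LinearMap.det_zero, finrank_fin_fun, zero_pow (by omega)]
    rw [h3] at h1
    exact zero_ne_one h1
  set! u : Fˣ := Units.mk0 c hc0 with hu
  set! v : Fˣ := (powCoprime hcop).symm u with hv
  have hvr : v ^ r = u := (powCoprime hcop).apply_symm_apply u
  have hvr' : (v : F) ^ r = c := by
    have := congrArg Units.val hvr
    rwa [Units.val_pow_eq_pow_val] at this
  have hv0 : (v : F) ≠ 0 := v.ne_zero
  have hno : ∀ j, j < 2 * r → j ≠ 0 → ∀ a : F, T ^ j ≠ a • (1 : Module.End F (Fin n → F)) := by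
    intro j hj hj0 a ha
    have := Nat.le_of_dvd (Nat.pos_of_ne_zero hj0) ((hTj j).1 ⟨a, ha⟩)
    omega
  have hr2' := hr.two_le
  obtain ⟨a, ha⟩ := h ((v : F)⁻¹ • T ^ 2) (T ^ r) (((Commute.refl T).pow_pow _ _).smul_left _) (by
      rw [smul_pow, ← pow_mul, hc, smul_smul, inv_pow, hvr', inv_mul_cancel₀ hc0, one_smul]) (by
      intro a ha
      refine hno 2 (by omega) (by norm_num) ((v : F) * a) ?_
      rw [← smul_smul, ← ha, smul_smul, mul_inv_cancel₀ hv0, one_smul]) (by rw [map_pow, hdet, one_pow]) c (by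
      rw [← pow_mul, mul_comm r 2, hc])
  exact hno r (by omega) hr.ne_zero a ha

theorem isSquare_of_pow_eq_one [Fintype F] (h2 : (2 : F) ≠ 0) {c : F} {n t m s : ℕ} (hc : c ^ n = 1)
    (hn : n = 2 ^ t * m) (hm : Odd m) (hq : Fintype.card F = 2 ^ (t + 1) * s + 1) (hn0 : n ≠ 0) : ∃ a : F, c = a ^ 2 := by
  have hchar : ringChar F ≠ 2 := by
    intro h
    apply h2
    have := ringChar.Nat.cast_ringChar (R := F)
    rw [h] at this
    exact_mod_cast this
  have hc0 : c ≠ 0 := by
    rintro rfl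
    rw [zero_pow hn0] at hc
    exact zero_ne_one hc
  have hhalf : Fintype.card F / 2 = 2 ^ t * s := by
    rw [hq, pow_succ]
    have : 2 ^ t * 2 * s = 2 * (2 ^ t * s) := by ring
    omega
  have hsq : IsSquare c := by
    rw [FiniteField.isSquare_iff hchar hc0, hhalf]
    rcases FiniteField.pow_dichotomy hchar hc0 with h | h
    · rwa [hhalf] at h
    · exfalso
      rw [hhalf] at h
      have h3 : (c ^ (2 ^ t * s)) ^ m = -1 := by rw [h, hm.neg_one_pow]
      have h4 : (c ^ (2 ^ t * s)) ^ m = 1 := by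
        rw [← pow_mul, show 2 ^ t * s * m = n * s by rw [hn]; ring, pow_mul, hc, one_pow]
      rw [h4] at h3
      have : (2 : F) = 0 := by
        have : (1 : F) + 1 = 0 := by nth_rewrite 1 [h3]; exact neg_add_cancel 1
        rwa [one_add_one_eq_two] at this
      exact h2 this
  obtain ⟨a, ha⟩ := hsq
  exact ⟨a, by rw [ha, sq]⟩

theorem coprime_units_of_orderOf [Finite F] {r : ℕ} (hr : r.Prime) (hk : 2 ≤ orderOf ((Nat.card F : ℕ) : ZMod r)) :
    (Nat.card Fˣ).Coprime r := by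
  rw [Nat.coprime_comm, hr.coprime_iff_not_dvd, Nat.card_units]
  intro h
  have hq : 1 ≤ Nat.card F := Nat.card_pos
  have h1 : ((Nat.card F : ℕ) : ZMod r) = 1 := by
    have := (ZMod.natCast_eq_zero_iff (Nat.card F - 1) r).2 h
    rw [Nat.cast_sub hq, Nat.cast_one, sub_eq_zero] at this
    exact this
  rw [h1, orderOf_one] at hk
  omega

/-- `k = n` -/
theorem psl_full [Fintype F] (h2 : (2 : F) ≠ 0) {n : ℕ} (hn : 2 ≤ n) {r : ℕ} (hr : r.Prime) (hr2 : r ≠ 2)
    (hrF : (r : F) ≠ 0) (hk : orderOf ((Nat.card F : ℕ) : ZMod r) = n) {t m s : ℕ}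
    (hnm : n = 2 ^ t * m) (hm : Odd m) (hq : Fintype.card F = 2 ^ (t + 1) * s + 1)
    (g : Matrix.ProjectiveSpecialLinearGroup (Fin n) F) : orderOf g ≠ 2 * r := by
  refine psl_order_ne (by omega) hr (coprime_units_of_orderOf hr (by omega)) ?_ hr2 g
  intro x y hcomm hx hxs hdet c hy
  haveI : Nonempty (Fin n) := ⟨⟨0, by omega⟩⟩
  have hx1 : x ≠ 1 := fun h => hxs 1 (by rw [h, one_smul])
  have hxM := (range_inv (x := x) (y := x) (fun v => rfl)).1
  have h1 := dvd_finrank_of_fpf_submodule hr x hx _ hxM (fpf_range hrF x hx)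
  rw [hk] at h1
  have hdim : finrank F (Fin n → F) = n := finrank_fin_fun F
  have hM := finrank_range_le_of_dvd hx1 h1 hdim (by omega)
  have hf := fpf_of_dim hrF x hx (hM.trans hdim.symm)
  have hirr := irr_of_dvd hr x hx hf (by rw [hk, hdim])
  have hcn : c ^ n = 1 := by
    have h3 : LinearMap.det (y ^ 2) = 1 := by rw [map_pow, hdet, one_pow]
    have e2 : LinearMap.det (1 : Module.End F (Fin n → F)) = 1 := LinearMap.det_id
    rw [hy, LinearMap.det_smul, hdim, e2, mul_one] at h3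
    exact h3
  obtain ⟨a, rfl⟩ := isSquare_of_pow_eq_one h2 hcn hnm hm hq (by omega)
  rcases irr_eq_one_or x y hcomm hirr hy with h | h
  · exact ⟨a, h⟩
  · exact ⟨-a, h⟩

/-- `k = n - 1` -/
theorem psl_partial [Fintype F] (h2 : (2 : F) ≠ 0) {n : ℕ} (hn : 4 ≤ n) (hev : Even n) {r : ℕ} (hr : r.Prime) (hr2 : r ≠ 2)
    (hrF : (r : F) ≠ 0) (hk : orderOf ((Nat.card F : ℕ) : ZMod r) = n - 1) {u w j : ℕ} (hw : Odd w)
    (hq : Fintype.card F = 2 ^ u * w + 1) (hn' : n = 2 ^ u * j)
    (g : Matrix.ProjectiveSpecialLinearGroup (Fin n) F) : orderOf g ≠ 2 * r := by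
  refine psl_order_ne (by omega) hr (coprime_units_of_orderOf hr (by omega)) ?_ hr2 g
  intro x y hcomm hx hxs hdet c hy
  haveI : Nonempty (Fin n) := ⟨⟨0, by omega⟩⟩
  have hxy : ∀ v, x (y v) = y (x v) := fun v => LinearMap.congr_fun hcomm.eq v
  have hx1 : x ≠ 1 := fun h => hxs 1 (by rw [h, one_smul])
  have hxM := (range_inv (x := x) (y := x) (fun v => rfl)).1
  have h1 := dvd_finrank_of_fpf_submodule hr x hx _ hxM (fpf_range hrF x hx)
  rw [hk] at h1
  have hdim : finrank F (Fin n → F) = n := finrank_fin_fun F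
  have hM := finrank_range_le_of_dvd hx1 h1 hdim (by omega)
  have hcompl := isCompl_fix hrF x hx
  have hsum := Submodule.finrank_add_eq_of_isCompl hcompl
  have hyM := (range_inv hxy).1
  have hyC := (range_inv hxy).2
  have hfpf := fpf_range hrF x hx
  have hC : finrank F (LinearMap.ker (x - 1)) = 1 := by omega
  -- `y` is a scalar on `C`
  obtain ⟨b, hb⟩ : ∃ b : F, ∀ v ∈ LinearMap.ker (x - 1), y v = b • v := by
    obtain ⟨v₀, hv₀, hspan⟩ := finrank_eq_one_iff'.1 hC
    obtain ⟨b, hb⟩ := hspan ⟨(y v₀ :), hyC v₀ v₀.2⟩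
    refine ⟨b, fun v hv => ?_⟩
    obtain ⟨d, hd⟩ := hspan ⟨v, hv⟩
    have e1 : v = d • (v₀ : Fin n → F) := (congrArg Subtype.val hd).symm
    have e2 : y v₀ = b • (v₀ : Fin n → F) := (congrArg Subtype.val hb).symm
    rw [e1, map_smul, e2, smul_comm]
  obtain ⟨v₀, hv₀C, hv₀⟩ : ∃ v ∈ LinearMap.ker (x - 1), v ≠ 0 := by
    refine (Submodule.ne_bot_iff _).1 fun h => ?_
    rw [h, finrank_bot] at hC
    omega
  have hcb : c = b ^ 2 := by
    have e1 : y (y v₀) = c • v₀ := LinearMap.congr_fun hy v₀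
    rw [hb v₀ hv₀C, map_smul, hb v₀ hv₀C, smul_smul] at e1
    have e2 : (b * b - c) • v₀ = 0 := by rw [sub_smul, e1, sub_self]
    have := (smul_eq_zero.1 e2).resolve_right hv₀
    rw [sq]
    exact (sub_eq_zero.1 this).symm
  subst hcb
  have hb0 : b ≠ 0 := by
    rintro rfl
    have h3 : LinearMap.det (y ^ 2) = 1 := by rw [map_pow, hdet, one_pow]
    have e2 : LinearMap.det (0 : Module.End F (Fin n → F)) = 0 := by
      rw [LinearMap.det_zero, finrank_fin_fun, zero_pow (by omega)]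
    rw [hy, zero_pow two_ne_zero, zero_smul, e2] at h3
    exact zero_ne_one h3
  set C := LinearMap.ker (x - 1) with hCdef
  set M := LinearMap.range (x - 1) with hMdef
  haveI : Nontrivial M := Module.nontrivial_of_finrank_pos (R := F) (by omega)
  have hf' : ∀ v : M, x.restrict hxM v = v → v = 0 := fun v hv =>
    Subtype.ext ((hfpf v v.2 (congrArg Subtype.val hv) :))
  have hirr := irr_of_dvd hr (x.restrict hxM) (restrict_pow_eq_one hxM hx) hf' (by rw [hM, hk])
  have hres := irr_eq_one_or (x.restrict hxM) (y.restrict hyM) (LinearMap.ext fun v => Subtype.ext (hxy v)) hirr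
    (a := b) (LinearMap.ext fun v => Subtype.ext (LinearMap.congr_fun hy v))
  have hdec : ∀ v : Fin n → F, ∃ a ∈ C, ∃ b ∈ M, v = a + b := by
    intro v
    obtain ⟨a, ha, b, hb, rfl⟩ := Submodule.mem_sup.1
      (show v ∈ C ⊔ M by rw [hcompl.sup_eq_top]; trivial)
    exact ⟨a, ha, b, hb, rfl⟩
  rcases hres with h | h
  · refine ⟨b, LinearMap.ext fun v => ?_⟩
    obtain ⟨v1, hv1, v2, hv2, rfl⟩ := hdec v
    rw [map_add, hb v1 hv1, LinearMap.smul_apply, Module.End.one_apply, smul_add]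
    have e1 : y v2 = b • v2 := congrArg Subtype.val (LinearMap.congr_fun h ⟨v2, hv2⟩)
    rw [e1]
  · exfalso
    -- the determinant
    have hyM2 : ∀ v ∈ M, y v = (-b) • v := fun v hv =>
      congrArg Subtype.val (LinearMap.congr_fun h ⟨v, hv⟩)
    have hd := LinearMap.det_eq_det_mul_det C y hyC
    have hq' : C.mapQ C y hyC = (-b) • (1 : Module.End F ((Fin n → F) ⧸ C)) := by
      apply LinearMap.ext
      intro v
      obtain ⟨v, rfl⟩ := Submodule.mkQ_surjective C v
      obtain ⟨a1, ha1, b1, hb1, rfl⟩ := hdec v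
      have e1 : C.mkQ (a1 + b1) = C.mkQ b1 := by
        rw [map_add]
        have : C.mkQ a1 = 0 := (Submodule.Quotient.mk_eq_zero C).2 ha1
        rw [this, zero_add]
      rw [e1]
      show C.mkQ (y b1) = _
      rw [hyM2 b1 hb1, map_smul]
      rfl
    have hfr : finrank F ((Fin n → F) ⧸ C) = n - 1 := by
      have h1 := Submodule.finrank_quotient_add_finrank C
      omega
    have e2 : LinearMap.det (1 : Module.End F ((Fin n → F) ⧸ C)) = 1 := LinearMap.det_id
    have hrC : y.restrict hyC = b • (1 : Module.End F C) :=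
      LinearMap.ext fun v => Subtype.ext ((hb v v.2 :))
    have e3 : LinearMap.det (1 : Module.End F C) = 1 := LinearMap.det_id
    rw [hdet, hq', hrC, LinearMap.det_smul, LinearMap.det_smul, hfr, hC, e2, e3, mul_one, mul_one, pow_one] at hd
    have hodd : Odd (n - 1) := by
      obtain ⟨t, ht⟩ := hev
      exact ⟨t - 1, by omega⟩
    rw [hodd.neg_pow, mul_neg, ← pow_succ', Nat.sub_add_cancel (by omega)] at hd
    have hbn : b ^ n = -1 := by rw [hd, neg_neg]
    have h5 : (b ^ n) ^ w = 1 := by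
      rw [← pow_mul, hn', show 2 ^ u * j * w = (2 ^ u * w) * j by ring, pow_mul]
      have : b ^ (2 ^ u * w) = 1 := by
        have := FiniteField.pow_card_sub_one_eq_one b hb0
        rwa [hq, Nat.add_sub_cancel] at this
      rw [this, one_pow]
    rw [hbn, hw.neg_one_pow] at h5
    have : (2 : F) = 0 := by
      have : (1 : F) + 1 = 0 := by nth_rewrite 1 [← h5]; exact neg_add_cancel 1
      rwa [one_add_one_eq_two] at this
    exact h2 this

theorem dvd_card_psl [Fintype F] {n : ℕ} (hn : 2 ≤ n) {r k : ℕ} (hr : r.Prime) (hk2 : 2 ≤ k) (hkn : k ≤ n)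
    (hq2 : 2 ≤ Fintype.card F)
    (hrm : ∀ m, r ∣ Fintype.card F ^ m - 1 ↔ k ∣ m) : r ∣ Nat.card (Matrix.ProjectiveSpecialLinearGroup (Fin n) F) := by
  have h := Cfsg.Agent.S0243.result (F := F) rfl n hn
  have hnq : ¬ r ∣ Fintype.card F - 1 := by
    intro h1
    have := Nat.le_of_dvd one_pos ((hrm 1).1 (by rwa [pow_one]))
    omega
  have hT : r ∣ ∏ i : Fin n, (Fintype.card F ^ n - Fintype.card F ^ (i : ℕ)) := by
    refine dvd_trans ?_ (Finset.dvd_prod_of_mem _ (Finset.mem_univ (⟨n - k, by omega⟩ : Fin n)))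
    show r ∣ Fintype.card F ^ n - Fintype.card F ^ (n - k)
    have : Fintype.card F ^ n - Fintype.card F ^ (n - k) = Fintype.card F ^ (n - k) * (Fintype.card F ^ k - 1) := by
      rw [Nat.mul_sub, ← pow_add, Nat.sub_add_cancel hkn, mul_one]
    rw [this]
    exact dvd_mul_of_dvd_right ((hrm k).2 dvd_rfl) _
  rw [← h] at hT
  rcases hr.dvd_mul.1 hT with h1 | h1
  · exact absurd (h1.trans (Nat.gcd_dvd_right _ _)) hnq
  · exact (hr.dvd_mul.1 h1).resolve_left hnq

/-- **`PSL_n(q)`, `q` odd, `n ≥ 3`** -/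
theorem psl_far_odd [Fintype F] (h2 : (2 : F) ≠ 0) {n : ℕ} (hn : 3 ≤ n) :
    Far (Matrix.ProjectiveSpecialLinearGroup (Fin n) F) := by
  have hqodd : Odd (Fintype.card F) := odd_card_of_two_ne_zero h2
  have hqe : Nat.card F = Fintype.card F := Nat.card_eq_fintype_card
  have hq3 : 3 ≤ Fintype.card F := by
    have := Fintype.one_lt_card (α := F)
    obtain ⟨t, ht⟩ := hqodd
    omega
  obtain ⟨t, m, hm, hnm⟩ := Nat.exists_eq_two_pow_mul_odd (n := n) (by omega)
  obtain ⟨u, w, hw, hqu⟩ := Nat.exists_eq_two_pow_mul_odd (n := Fintype.card F - 1) (by omega)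
  have hqu' : Fintype.card F = 2 ^ u * w + 1 := by omega
  by_cases htu : t + 1 ≤ u
  · -- `k = n`
    obtain ⟨r, hr, hr2, hrF, hk, hrm⟩ := exists_primitive_prime (F := F) (k := n) (by omega) (by omega)
    refine ⟨r, hr, hr2, dvd_card_psl (by omega) hr (by omega) le_rfl (by omega) hrm,
      psl_full h2 (by omega) hr hr2 hrF hk hnm hm (s := 2 ^ (u - (t + 1)) * w) ?_⟩
    rw [← mul_assoc, ← pow_add, Nat.add_sub_cancel' htu]
    exact hqu'
  · -- `k = n - 1`
    have hu1 : 1 ≤ u := by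
      by_contra hu
      have : u = 0 := by omega
      rw [this, pow_zero, one_mul] at hqu
      rw [← hqu] at hw
      obtain ⟨a, ha⟩ := hqodd
      obtain ⟨b, hb⟩ := hw
      omega
    have hev : Even n := by
      rw [hnm, show t = (t - 1) + 1 by omega, pow_succ]
      exact ⟨2 ^ (t - 1) * m, by ring⟩
    have hn4 : 4 ≤ n := by
      obtain ⟨a, ha⟩ := hev
      omega
    obtain ⟨r, hr, hr2, hrF, hk, hrm⟩ := exists_primitive_prime (F := F) (k := n - 1) (by omega) (by omega)
    refine ⟨r, hr, hr2, dvd_card_psl (by omega) hr (by omega) (by omega) (by omega) hrm,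
      psl_partial h2 hn4 hev hr hr2 hrF hk hw hqu' (j := 2 ^ (t - u) * m) ?_⟩
    rw [← mul_assoc, ← pow_add, Nat.add_sub_cancel' (by omega)]
    exact hnm

/-- **`PSL_2(q)`, `q` odd** -/
theorem psl_far_two [Fintype F] (h2 : (2 : F) ≠ 0) (hq : 4 ≤ Fintype.card F) :
    Far (Matrix.ProjectiveSpecialLinearGroup (Fin 2) F) := by
  have hqodd : Odd (Fintype.card F) := odd_card_of_two_ne_zero h2
  have hq5 : 5 ≤ Fintype.card F := by
    obtain ⟨t, ht⟩ := hqodd
    omega
  obtain ⟨p, hp⟩ := CharP.exists F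
  obtain ⟨m, hp', hm⟩ := FiniteField.card F p
  haveI : Fact p.Prime := ⟨hp'⟩
  have hp2 : p ≠ 2 := by
    rintro rfl
    exact h2 (by exact_mod_cast CharP.cast_eq_zero F 2)
  refine ⟨p, hp', hp2, ?_, Cfsg.Agent.S2471.result p hp2 hq5⟩
  have h := Cfsg.Agent.S0243.result (F := F) rfl 2 le_rfl
  have hT : p ∣ ∏ i : Fin 2, (Fintype.card F ^ 2 - Fintype.card F ^ (i : ℕ)) := by
    refine dvd_trans ?_ (Finset.dvd_prod_of_mem _ (Finset.mem_univ (1 : Fin 2)))
    show p ∣ Fintype.card F ^ 2 - Fintype.card F ^ 1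
    refine Nat.dvd_sub ?_ ?_
    · rw [hm, ← pow_mul]
      exact dvd_pow_self _ (Nat.mul_ne_zero (PNat.ne_zero m) two_ne_zero)
    · rw [pow_one, hm]
      exact dvd_pow_self _ (PNat.ne_zero m)
  have hnq : ¬ p ∣ Fintype.card F - 1 := by
    intro h1
    have h3 : p ∣ Fintype.card F := by rw [hm]; exact dvd_pow_self _ (PNat.ne_zero m)
    have h4 : p ∣ Fintype.card F - (Fintype.card F - 1) := Nat.dvd_sub h3 h1
    have h5 : Fintype.card F - (Fintype.card F - 1) = 1 := by omega
    rw [h5] at h4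
    exact hp'.one_lt.ne' (Nat.dvd_one.1 h4)
  rw [← h] at hT
  rcases hp'.dvd_mul.1 hT with h1 | h1
  · exact absurd (h1.trans (Nat.gcd_dvd_right _ _)) hnq
  · exact (hp'.dvd_mul.1 h1).resolve_left hnq

/-- **`PSL_n(q)`, `q` even** -/
theorem psl_far_even [Fintype F] (h2 : (2 : F) = 0) {n : ℕ} (hn : 2 ≤ n) (hsmall : n = 2 → 4 ≤ Fintype.card F) :
    Far (Matrix.ProjectiveSpecialLinearGroup (Fin n) F) := by
  haveI : CharP F 2 := CharTwo.of_one_ne_zero_of_two_eq_zero one_ne_zero h2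
  have hqe : Nat.card F = Fintype.card F := Nat.card_eq_fintype_card
  have hq2 : 2 ≤ Fintype.card F := Fintype.one_lt_card (α := F)
  have key : ∀ r k : ℕ, r.Prime → r ≠ 2 → r ∣ Nat.card (Matrix.ProjectiveSpecialLinearGroup (Fin n) F) →
      orderOf ((Nat.card F : ℕ) : ZMod r) = k → n - 2 < k → Far (Matrix.ProjectiveSpecialLinearGroup (Fin n) F) := by
    intro r k hr hr2 hd hk hnk
    refine ⟨r, hr, hr2, hd, fun g hg => ?_⟩
    refine (Cfsg.Agent.S2470.result 2 n hn hsmall r hr hr2 hr2 hd k (by rw [← hk, hqe])).2 (Or.inl hnk) ⟨g, ?_⟩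
    rw [hg, mul_comm]
  by_cases hn2 : n = 2
  · subst hn2
    have hq4 := hsmall rfl
    set r := Nat.minFac (Fintype.card F + 1) with hrdef
    have hr : r.Prime := Nat.minFac_prime (by omega)
    have hrd : r ∣ Fintype.card F + 1 := Nat.minFac_dvd _
    have h2q : 2 ∣ Fintype.card F := by
      obtain ⟨m, -, hm⟩ := FiniteField.card F 2
      rw [hm]
      exact dvd_pow_self _ (PNat.ne_zero m)
    have hr2 : r ≠ 2 := by
      intro h
      rw [h] at hrd
      omega
    have hnq : ¬ r ∣ Fintype.card F - 1 := by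
      intro h1
      have h4 : r ∣ (Fintype.card F + 1) - (Fintype.card F - 1) := Nat.dvd_sub hrd h1
      have h5 : (Fintype.card F + 1) - (Fintype.card F - 1) = 2 := by omega
      rw [h5] at h4
      exact hr2 ((Nat.prime_dvd_prime_iff_eq hr Nat.prime_two).1 h4)
    have hnF : ¬ r ∣ Fintype.card F := by
      intro h1
      have h4 : r ∣ (Fintype.card F + 1) - Fintype.card F := Nat.dvd_sub hrd h1
      rw [Nat.add_sub_cancel_left] at h4
      exact hr.one_lt.ne' (Nat.dvd_one.1 h4)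
    refine key r _ hr hr2 ?_ rfl (orderOf_card_pos (F := F) hr (natCast_ne_zero_of_not_dvd hr (by rw [hqe]; exact hnF)))
    have h := Cfsg.Agent.S0243.result (F := F) rfl 2 le_rfl
    have hT : r ∣ ∏ i : Fin 2, (Fintype.card F ^ 2 - Fintype.card F ^ (i : ℕ)) := by
      refine dvd_trans ?_ (Finset.dvd_prod_of_mem _ (Finset.mem_univ (0 : Fin 2)))
      show r ∣ Fintype.card F ^ 2 - Fintype.card F ^ 0
      have : Fintype.card F ^ 2 - Fintype.card F ^ 0 = (Fintype.card F + 1) * (Fintype.card F - 1) := by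
        rw [pow_zero]
        have := Nat.sq_sub_sq (Fintype.card F) 1
        rw [one_pow] at this
        exact this
      rw [this]
      exact dvd_mul_of_dvd_left hrd _
    rw [← h] at hT
    rcases hr.dvd_mul.1 hT with h1 | h1
    · exact absurd (h1.trans (Nat.gcd_dvd_right _ _)) hnq
    · exact (hr.dvd_mul.1 h1).resolve_left hnq
  · by_cases h6 : Fintype.card F = 2 ∧ n = 6
    · obtain ⟨r, hr, hr2, hrF, hk, hrm⟩ := exists_primitive_prime (F := F) (k := 5) (by omega) (by omega)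
      exact key r 5 hr hr2 (dvd_card_psl hn hr (by omega) (by omega) hq2 hrm) hk (by omega)
    · obtain ⟨r, hr, hr2, hrF, hk, hrm⟩ := exists_primitive_prime (F := F) (k := n) (by omega) h6
      exact key r n hr hr2 (dvd_card_psl hn hr (by omega) le_rfl hq2 hrm) hk (by omega)

theorem far_of_isPSL {G : Type*} [Group G] (h : IsPSL G) : Far G := by
  obtain ⟨F, _, _, n, hn, hsmall, ⟨e⟩⟩ := h
  refine Far.congr e.symm ?_
  by_cases h2 : (2 : F) = 0
  · exact psl_far_even h2 hn hsmall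
  · by_cases hn2 : n = 2
    · subst hn2
      exact psl_far_two h2 (hsmall rfl)
    · exact psl_far_odd h2 (by omega)

end Cfsg.Agent.H150
end

-- part: H150/FarPSU
section
/-!
# An odd prime not adjacent to `2`: `PSU_n(q)` (helper150)
-/

set_option autoImplicit false
set_option linter.style.haveILetI false

namespace Cfsg.Agent.H150

open Module Cfsg
open Cfsg.Agent.S2470 (lin det_lin)
open Cfsg.Agent.LieClassical.HermBasic Cfsg.Agent.LieClassical.HermSiegel
open Cfsg.Agent.ClassicalGeometry.PSUAutBasic (pr pr_eq_one_iff exists_scalar_of_mem_center mem_center_of_act)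

variable {F : Type*} [Field F] [Fintype F] {q n : ℕ}

/-- isometry of the hermitian form -/
def HIso (q : ℕ) {n : ℕ} (x : (Fin n → F) →ₗ[F] (Fin n → F)) : Prop :=
  ∀ u v, hermForm n F q (x u) (x v) = hermForm n F q u v

omit [Fintype F] in
theorem HIso.pow {x : (Fin n → F) →ₗ[F] (Fin n → F)} (h : HIso q x) (j : ℕ) : HIso q (x ^ j) := by
  induction j with
  | zero => intro u v; rfl
  | succ j ih => intro u v; rw [pow_succ', Module.End.mul_apply, Module.End.mul_apply, h, ih]

omit [Fintype F] in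
theorem act_pow_lin (A : SU n F q) (j : ℕ) (v : Fin n → F) : act (A ^ j) v = ((lin A.1) ^ j) v := by
  induction j generalizing v with
  | zero => rw [pow_zero, pow_zero, act_one]; rfl
  | succ j ih =>
    rw [pow_succ, pow_succ, act_mul, ih]
    rfl

/-- the criterion -/
theorem psu_order_ne (hF : Fintype.card F = q ^ 2) (hn : 3 ≤ n) {r : ℕ} (hr : r.Prime)
    (hcop : (Nat.card Fˣ).Coprime r)
    (h : ∀ x y : (Fin n → F) →ₗ[F] (Fin n → F), Commute x y → x ^ r = 1 →
      (∀ a : F, x ≠ a • (1 : Module.End F (Fin n → F))) → HIso q x → HIso q y → LinearMap.det y = 1 →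
      ∀ c : F, y ^ 2 = c • (1 : Module.End F (Fin n → F)) → c ^ (q + 1) = 1 →
      ∃ a : F, y = a • (1 : Module.End F (Fin n → F)))
    (g : PSU n F q) : orderOf g ≠ 2 * r := by
  intro hg
  obtain ⟨A, rfl⟩ := QuotientGroup.mk_surjective g
  have hTj : ∀ j, (∃ c : F, (lin A.1) ^ j = c • (1 : Module.End F (Fin n → F))) ↔ 2 * r ∣ j := by
    intro j
    rw [← hg, orderOf_dvd_iff_pow_eq_one, ← QuotientGroup.mk_pow, QuotientGroup.eq_one_iff]
    constructor
    · rintro ⟨c, hc⟩
      refine mem_center_of_act (c := c) fun v => ?_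
      rw [act_pow_lin, hc]
      rfl
    · intro hz
      obtain ⟨c, -, -, hc⟩ := exists_scalar_of_mem_center hF hn hz
      refine ⟨c, LinearMap.ext fun v => ?_⟩
      rw [← act_pow_lin, hc]
      rfl
  have hdet := det_lin A.1
  have hiso : HIso q (lin A.1) := fun u v => A.2 u v
  generalize lin A.1 = T at hTj hdet hiso
  obtain ⟨c, hc⟩ := (hTj (2 * r)).2 dvd_rfl
  haveI : Nonempty (Fin n) := ⟨⟨0, by omega⟩⟩
  have hcq : c ^ (q + 1) = 1 := by
    have h1 := hiso.pow (2 * r) (Pi.single ⟨0, by omega⟩ 1) (Pi.single ⟨0, by omega⟩ 1)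
    rw [hc, LinearMap.smul_apply, Module.End.one_apply, herm_smul_left, herm_smul_right, herm_single_right hF,
      Pi.single_eq_same, one_pow, mul_one, mul_one, ← pow_succ'] at h1
    exact h1
  have hc0 : c ≠ 0 := by
    rintro rfl
    rw [zero_pow (by omega)] at hcq
    exact zero_ne_one hcq
  set! u : Fˣ := Units.mk0 c hc0 with hu
  set! v : Fˣ := (powCoprime hcop).symm u with hv
  have hvr : v ^ r = u := (powCoprime hcop).apply_symm_apply u
  have hvr' : (v : F) ^ r = c := by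
    have := congrArg Units.val hvr
    rwa [Units.val_pow_eq_pow_val] at this
  have hv0 : (v : F) ≠ 0 := v.ne_zero
  have hvq : v ^ (q + 1) = 1 := by
    apply (powCoprime hcop).injective
    show (v ^ (q + 1)) ^ r = (1 : Fˣ) ^ r
    rw [one_pow, ← pow_mul, mul_comm, pow_mul, hvr]
    apply Units.ext
    rw [Units.val_pow_eq_pow_val]
    exact hcq
  have hvq' : (v : F) * (v : F) ^ q = 1 := by
    have := congrArg Units.val hvq
    rwa [Units.val_pow_eq_pow_val, pow_succ'] at this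
  have hno : ∀ j, j < 2 * r → j ≠ 0 → ∀ a : F, T ^ j ≠ a • (1 : Module.End F (Fin n → F)) := by
    intro j hj hj0 a ha
    have := Nat.le_of_dvd (Nat.pos_of_ne_zero hj0) ((hTj j).1 ⟨a, ha⟩)
    omega
  have hr2' := hr.two_le
  obtain ⟨a, ha⟩ := h ((v : F)⁻¹ • T ^ 2) (T ^ r) (((Commute.refl T).pow_pow _ _).smul_left _) (by
      rw [smul_pow, ← pow_mul, hc, smul_smul, inv_pow, hvr', inv_mul_cancel₀ hc0, one_smul]) (by
      intro a ha
      refine hno 2 (by omega) (by norm_num) ((v : F) * a) ?_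
      rw [← smul_smul, ← ha, smul_smul, mul_inv_cancel₀ hv0, one_smul]) (by
      intro u w
      rw [LinearMap.smul_apply, LinearMap.smul_apply, herm_smul_left, herm_smul_right, hiso.pow 2, ← mul_assoc,
        inv_pow, ← mul_inv, hvq', inv_one, one_mul]) (hiso.pow r) (by rw [map_pow, hdet, one_pow]) c (by
      rw [← pow_mul, mul_comm r 2, hc]) hcq
  exact hno r (by omega) hr.ne_zero a ha

/-- `[V, x]` and `C_V(x)` are orthogonal -/
theorem herm_range_fix (hF : Fintype.card F = q ^ 2) {x : (Fin n → F) →ₗ[F] (Fin n → F)} (hx : HIso q x)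
    {c m : Fin n → F} (hc : x c = c) (hm : m ∈ LinearMap.range (x - 1)) : hermForm n F q m c = 0 := by
  obtain ⟨v, rfl⟩ := hm
  rw [LinearMap.sub_apply, Module.End.one_apply, herm_sub_left]
  nth_rewrite 1 [← hc]
  rw [hx, sub_self]

theorem herm_nondeg_range (hF : Fintype.card F = q ^ 2) {r : ℕ} (hrF : (r : F) ≠ 0)
    {x : (Fin n → F) →ₗ[F] (Fin n → F)} (hx : HIso q x) (hxr : x ^ r = 1) :
    ∀ u ∈ LinearMap.range (x - 1), (∀ v ∈ LinearMap.range (x - 1), hermForm n F q u v = 0) → u = 0 := by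
  intro u hu h
  apply herm_nondeg hF
  intro v
  have hcompl := isCompl_fix hrF x hxr
  obtain ⟨a, ha, b, hb, rfl⟩ := Submodule.mem_sup.1
    (show v ∈ LinearMap.ker (x - 1) ⊔ LinearMap.range (x - 1) by rw [hcompl.sup_eq_top]; trivial)
  rw [LinearMap.mem_ker, LinearMap.sub_apply, Module.End.one_apply, sub_eq_zero] at ha
  rw [herm_add_right hF, herm_range_fix hF hx ha hu, h b hb, add_zero]

theorem herm_nondeg_ker (hF : Fintype.card F = q ^ 2) {r : ℕ} (hrF : (r : F) ≠ 0)
    {x : (Fin n → F) →ₗ[F] (Fin n → F)} (hx : HIso q x) (hxr : x ^ r = 1) :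
    ∀ u ∈ LinearMap.ker (x - 1), (∀ v ∈ LinearMap.ker (x - 1), hermForm n F q u v = 0) → u = 0 := by
  intro u hu h
  apply herm_nondeg hF
  intro v
  have hcompl := isCompl_fix hrF x hxr
  obtain ⟨a, ha, b, hb, rfl⟩ := Submodule.mem_sup.1
    (show v ∈ LinearMap.ker (x - 1) ⊔ LinearMap.range (x - 1) by rw [hcompl.sup_eq_top]; trivial)
  rw [LinearMap.mem_ker, LinearMap.sub_apply, Module.End.one_apply, sub_eq_zero] at hu
  rw [herm_add_right hF, h a ha, herm_eq_zero_swap hF (herm_range_fix hF hx hu hb), add_zero]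

/-- counting vectors of norm one in a nondegenerate subspace -/
theorem count_dvd (hF : Fintype.card F = q ^ 2) {r k : ℕ} (hr : r.Prime) (U : Submodule F (Fin n → F))
    (hU : ∀ u ∈ U, (∀ v ∈ U, hermForm n F q u v = 0) → u = 0) (hk : finrank F U = k)
    {x : (Fin n → F) →ₗ[F] (Fin n → F)} (hx : HIso q x) (hxr : x ^ r = 1) (hxU : ∀ u ∈ U, x u ∈ U)
    (hf : ∀ u ∈ U, x u = u → u = 0) (hrq : ¬ r ∣ q) : (r : ℤ) ∣ (-q : ℤ) ^ k - 1 := by
  classical
  obtain ⟨b, hbU, hb⟩ := Cfsg.Agent.ClassicalGeometry.HermOrtho.exists_orthonormal hF U hU hk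
  have hexp : ∀ w ∈ U, w = ∑ i, hermForm n F q w (b i) • b i := fun w hw =>
    Cfsg.Agent.ClassicalGeometry.HermOrtho.eq_sum_of_orthonormal U (by rw [hk, Fintype.card_fin]) hbU hb hw
  have hcoord : ∀ (c : Fin k → F) (j : Fin k), hermForm n F q (∑ i, c i • b i) (b j) = c j := fun c j =>
    Cfsg.Agent.ClassicalGeometry.HermOrtho.herm_sum_smul_left hb c j
  have hnorm : ∀ c : Fin k → F, hermForm n F q (∑ i, c i • b i) (∑ i, c i • b i) = hermForm k F q c c := by
    intro c
    rw [herm_sum_right hF, herm_def]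
    refine Finset.sum_congr rfl fun j _ => ?_
    rw [herm_smul_right, hcoord, mul_comm]
  let S := {v : Fin n → F // v ∈ U ∧ hermForm n F q v v = 1}
  have hS : Nat.card S = Nat.card {v : Fin k → F // hermForm k F q v v = 1} := by
    refine Nat.card_congr ?_
    refine
      { toFun := fun v => ⟨fun i => hermForm n F q v.1 (b i), ?_⟩
        invFun := fun c => ⟨∑ i, c.1 i • b i, Submodule.sum_mem _ fun i _ => Submodule.smul_mem _ _ (hbU i), ?_⟩
        left_inv := ?_
        right_inv := ?_ }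
    · rw [← hnorm, ← hexp v.1 v.2.1]
      exact v.2.2
    · rw [hnorm]
      exact c.2
    · intro v
      exact Subtype.ext (hexp v.1 v.2.1).symm
    · intro c
      exact Subtype.ext (funext fun j => hcoord c.1 j)
  haveI : Fact r.Prime := ⟨hr⟩
  haveI : Fintype S := Fintype.ofFinite S
  let f : Function.End S := fun v => ⟨x v.1, hxU _ v.2.1, by rw [hx]; exact v.2.2⟩
  have hfj : ∀ (j : ℕ) (v : S), ((f ^ j) v).1 = (x ^ j) v.1 := by
    intro j
    induction j with
    | zero => intro v; rfl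
    | succ j ih =>
      intro v
      rw [pow_succ', pow_succ']
      show x ((f ^ j) v).1 = x ((x ^ j) v.1)
      rw [ih]
  have hfr : f ^ r ^ 1 = 1 := by
    funext v
    apply Subtype.ext
    rw [pow_one, hfj, hxr]
    rfl
  have hmod := Equiv.Perm.card_fixedPoints_modEq (p := r) (n := 1) hfr
  have hfix : Fintype.card (Function.fixedPoints f) = 0 := by
    rw [Fintype.card_eq_zero_iff]
    refine ⟨fun v => ?_⟩
    have h1 : x v.1.1 = v.1.1 := congrArg Subtype.val v.2
    have h3 := hf _ v.1.2.1 h1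
    have h4 := v.1.2.2
    rw [h3, herm_zero_left] at h4
    exact zero_ne_one h4
  rw [hfix, ← Nat.card_eq_fintype_card, hS] at hmod
  have hdvd : r ∣ Nat.card {v : Fin k → F // hermForm k F q v v = 1} := (Nat.modEq_zero_iff_dvd).1 hmod
  have hcount := Cfsg.Agent.LieClassical.HermCount.card_herm_eq hF k (c := (1 : F)) (one_pow q) one_ne_zero
  have h1 : (r : ℤ) ∣ (q : ℤ) ^ (2 * k) - (-q : ℤ) ^ k := by
    rw [← hcount]
    exact dvd_mul_of_dvd_right (by exact_mod_cast hdvd) _
  have h2 : (q : ℤ) ^ (2 * k) - (-q : ℤ) ^ k = (-q : ℤ) ^ k * ((-q : ℤ) ^ k - 1) := by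
    rw [mul_sub, ← pow_add, mul_one, ← two_mul, Even.neg_pow (even_two_mul k)]
  rw [h2] at h1
  have hrp : Prime (r : ℤ) := Nat.prime_iff_prime_int.1 hr
  refine (hrp.dvd_or_dvd h1).resolve_left fun h3 => hrq ?_
  have h4 := hrp.dvd_of_dvd_pow h3
  rw [dvd_neg] at h4
  exact_mod_cast h4

/-- `n` odd, `k = n` -/
theorem psu_full (hF : Fintype.card F = q ^ 2) (hn : 3 ≤ n) (hodd : Odd n) {r : ℕ} (hr : r.Prime)
    (hrF : (r : F) ≠ 0) (hk : orderOf ((Nat.card F : ℕ) : ZMod r) = n) (g : PSU n F q) : orderOf g ≠ 2 * r := by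
  refine psu_order_ne hF hn hr (coprime_units_of_orderOf hr (by omega)) ?_ g
  intro x y hcomm hx hxs hxi hyi hdet c hy hcq
  haveI : Nonempty (Fin n) := ⟨⟨0, by omega⟩⟩
  have hx1 : x ≠ 1 := fun h => hxs 1 (by rw [h, one_smul])
  have hxM := (range_inv (x := x) (y := x) (fun v => rfl)).1
  have h1 := dvd_finrank_of_fpf_submodule hr x hx _ hxM (fpf_range hrF x hx)
  rw [hk] at h1
  have hdim : finrank F (Fin n → F) = n := finrank_fin_fun F
  have hM := finrank_range_le_of_dvd hx1 h1 hdim (by omega)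
  have hf := fpf_of_dim hrF x hx (hM.trans hdim.symm)
  have hirr := irr_of_dvd hr x hx hf (by rw [hk, hdim])
  have hcn : c ^ n = 1 := by
    have h3 : LinearMap.det (y ^ 2) = 1 := by rw [map_pow, hdet, one_pow]
    have e2 : LinearMap.det (1 : Module.End F (Fin n → F)) = 1 := LinearMap.det_id
    rw [hy, LinearMap.det_smul, hdim, e2, mul_one] at h3
    exact h3
  obtain ⟨t, ht⟩ := hodd
  have hsq : c = (c ^ (t + 1)) ^ 2 := by
    rw [← pow_mul, show (t + 1) * 2 = n + 1 by omega, pow_succ, hcn, one_mul]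
  rw [hsq] at hy
  rcases irr_eq_one_or x y hcomm hirr hy with h | h
  · exact ⟨_, h⟩
  · exact ⟨_, h⟩

/-- `n` even, `k = n - 1` -/
theorem psu_partial (hF : Fintype.card F = q ^ 2) (hn : 4 ≤ n) (hev : Even n) {r : ℕ} (hr : r.Prime)
    (hrF : (r : F) ≠ 0) (hk : orderOf ((Nat.card F : ℕ) : ZMod r) = n - 1)
    (hor : (2 : F) = 0 ∨ ∃ u w j : ℕ, Odd w ∧ q + 1 = 2 ^ u * w ∧ n = 2 ^ u * j)
    (g : PSU n F q) : orderOf g ≠ 2 * r := by
  refine psu_order_ne hF (by omega) hr (coprime_units_of_orderOf hr (by omega)) ?_ g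
  intro x y hcomm hx hxs hxi hyi hdet c hy hcq
  haveI : Nonempty (Fin n) := ⟨⟨0, by omega⟩⟩
  have hxy : ∀ v, x (y v) = y (x v) := fun v => LinearMap.congr_fun hcomm.eq v
  have hx1 : x ≠ 1 := fun h => hxs 1 (by rw [h, one_smul])
  have hxM := (range_inv (x := x) (y := x) (fun v => rfl)).1
  have h1 := dvd_finrank_of_fpf_submodule hr x hx _ hxM (fpf_range hrF x hx)
  rw [hk] at h1
  have hdim : finrank F (Fin n → F) = n := finrank_fin_fun F
  have hM := finrank_range_le_of_dvd hx1 h1 hdim (by omega)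
  have hcompl := isCompl_fix hrF x hx
  have hsum := Submodule.finrank_add_eq_of_isCompl hcompl
  have hyM := (range_inv hxy).1
  have hyC := (range_inv hxy).2
  have hfpf := fpf_range hrF x hx
  have hC : finrank F (LinearMap.ker (x - 1)) = 1 := by omega
  have hCnd := herm_nondeg_ker hF hrF hxi hx
  -- `y` is a scalar on `C`
  obtain ⟨v₀, hv₀, hspan⟩ := finrank_eq_one_iff'.1 hC
  have hv₀' : (v₀ : Fin n → F) ≠ 0 := fun h => hv₀ (Subtype.ext h)
  obtain ⟨b, hb⟩ : ∃ b : F, ∀ v ∈ LinearMap.ker (x - 1), y v = b • v := by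
    obtain ⟨b, hb⟩ := hspan ⟨y v₀, hyC v₀ v₀.2⟩
    refine ⟨b, fun v hv => ?_⟩
    obtain ⟨d, hd⟩ := hspan ⟨v, hv⟩
    have e1 : v = d • (v₀ : Fin n → F) := (congrArg Subtype.val hd).symm
    have e2 : y v₀ = b • (v₀ : Fin n → F) := (congrArg Subtype.val hb).symm
    rw [e1, map_smul, e2, smul_comm]
  have hv₀h : hermForm n F q (v₀ : Fin n → F) v₀ ≠ 0 := by
    intro h0
    apply hv₀'
    apply hCnd _ v₀.2
    intro v hv
    obtain ⟨d, hd⟩ := hspan ⟨v, hv⟩
    have e1 : v = d • (v₀ : Fin n → F) := (congrArg Subtype.val hd).symm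
    rw [e1, herm_smul_right, h0, mul_zero]
  have hbq : b ^ (q + 1) = 1 := by
    have h3 := hyi v₀ v₀
    rw [hb v₀ v₀.2, herm_smul_left, herm_smul_right, ← mul_assoc, ← pow_succ'] at h3
    exact mul_right_cancel₀ hv₀h (by rw [h3, one_mul])
  have hcb : c = b ^ 2 := by
    have e1 : y (y v₀) = c • (v₀ : Fin n → F) := LinearMap.congr_fun hy v₀
    rw [hb v₀ v₀.2, map_smul, hb v₀ v₀.2, smul_smul] at e1
    have e2 : (b * b - c) • (v₀ : Fin n → F) = 0 := by rw [sub_smul, e1, sub_self]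
    have := (smul_eq_zero.1 e2).resolve_right hv₀'
    rw [sq]
    exact (sub_eq_zero.1 this).symm
  subst hcb
  set! C := LinearMap.ker (x - 1) with hCdef; rewrite [← hCdef] at hb v₀ hCnd hC hyC hsum hcompl
  set! M := LinearMap.range (x - 1) with hMdef; rewrite [← hMdef] at hsum hcompl hfpf hyM hM h1 hxM
  haveI : Nontrivial M := Module.nontrivial_of_finrank_pos (R := F) (by omega)
  have hf' : ∀ v : M, x.restrict hxM v = v → v = 0 := fun v hv =>
    Subtype.ext ((hfpf v v.2 (congrArg Subtype.val hv) :))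
  have hirr := irr_of_dvd hr (x.restrict hxM) (restrict_pow_eq_one hxM hx) hf' (by rw [hM, hk])
  have hres := irr_eq_one_or (x.restrict hxM) (y.restrict hyM) (LinearMap.ext fun v => Subtype.ext (hxy v)) hirr
    (a := b) (LinearMap.ext fun v => Subtype.ext (LinearMap.congr_fun hy v))
  have hdec : ∀ v : Fin n → F, ∃ a ∈ C, ∃ b ∈ M, v = a + b := by
    intro v
    obtain ⟨a, ha, b, hb, rfl⟩ := Submodule.mem_sup.1
      (show v ∈ C ⊔ M by rw [hcompl.sup_eq_top]; trivial)
    exact ⟨a, ha, b, hb, rfl⟩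
  have hgood : y.restrict hyM = b • (1 : Module.End F M) → ∃ a : F, y = a • (1 : Module.End F (Fin n → F)) := by
    intro h
    refine ⟨b, LinearMap.ext fun v => ?_⟩
    obtain ⟨v1, hv1, v2, hv2, rfl⟩ := hdec v
    rw [map_add, hb v1 hv1, LinearMap.smul_apply, Module.End.one_apply, smul_add]
    have e1 : y v2 = b • v2 := congrArg Subtype.val (LinearMap.congr_fun h ⟨v2, hv2⟩)
    rw [e1]
  rcases hres with h | h
  · exact hgood h
  · rcases hor with h2 | ⟨u, w, j, hw, hq, hn'⟩
    · apply hgood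
      rw [h]
      congr 1
      have : b + b = 0 := by rw [← two_mul, h2, zero_mul]
      exact neg_eq_of_add_eq_zero_left this
    by_cases h2 : (2 : F) = 0
    · apply hgood
      rw [h]
      congr 1
      have : b + b = 0 := by rw [← two_mul, h2, zero_mul]
      exact neg_eq_of_add_eq_zero_left this
    exfalso
    -- the determinant
    have hyM2 : ∀ v ∈ M, y v = (-b) • v := fun v hv =>
      congrArg Subtype.val (LinearMap.congr_fun h ⟨v, hv⟩)
    have hd := LinearMap.det_eq_det_mul_det C y hyC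
    have hq' : C.mapQ C y hyC = (-b) • (1 : Module.End F ((Fin n → F) ⧸ C)) := by
      apply LinearMap.ext
      intro v
      obtain ⟨v, rfl⟩ := Submodule.mkQ_surjective C v
      obtain ⟨a1, ha1, b1, hb1, rfl⟩ := hdec v
      have e1 : C.mkQ (a1 + b1) = C.mkQ b1 := by
        rw [map_add]
        have : C.mkQ a1 = 0 := (Submodule.Quotient.mk_eq_zero C).2 ha1
        rw [this, zero_add]
      rw [e1]
      show C.mkQ (y b1) = _
      rw [hyM2 b1 hb1, map_smul]
      rfl
    have hfr : finrank F ((Fin n → F) ⧸ C) = n - 1 := by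
      have h1 := Submodule.finrank_quotient_add_finrank C
      omega
    have e2 : LinearMap.det (1 : Module.End F ((Fin n → F) ⧸ C)) = 1 := LinearMap.det_id
    have hrC : y.restrict hyC = b • (1 : Module.End F C) :=
      LinearMap.ext fun v => Subtype.ext ((hb v v.2 :))
    have e3 : LinearMap.det (1 : Module.End F C) = 1 := LinearMap.det_id
    rw [hdet, hq', hrC, LinearMap.det_smul, LinearMap.det_smul, hfr, hC, e2, e3, mul_one, mul_one, pow_one] at hd
    have hodd : Odd (n - 1) := by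
      obtain ⟨t, ht⟩ := hev
      exact ⟨t - 1, by (clear * - hn ht; omega)⟩
    rw [hodd.neg_pow, mul_neg, ← pow_succ', Nat.sub_add_cancel (by omega)] at hd
    have hbn : b ^ n = -1 := by rw [hd, neg_neg]
    have h5 : (b ^ n) ^ w = 1 := by
      rw [← pow_mul, hn', show 2 ^ u * j * w = (2 ^ u * w) * j by ring, pow_mul, ← hq, hbq, one_pow]
    rw [hbn, hw.neg_one_pow] at h5
    have : (2 : F) = 0 := by
      have : (1 : F) + 1 = 0 := by nth_rewrite 1 [← h5]; exact neg_add_cancel 1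
      rwa [one_add_one_eq_two] at this
    exact h2 this

end Cfsg.Agent.H150
end

-- part: H150/FarPSUTwo
section
/-!
# An odd prime not adjacent to `2`: `PSU_n(q)`, second part (helper150)
-/

set_option autoImplicit false
set_option linter.style.haveILetI false

namespace Cfsg.Agent.H150

open Module Cfsg
open Cfsg.Agent.LieClassical.HermBasic Cfsg.Agent.LieClassical.HermSiegel

variable {F : Type*} [Field F] [Fintype F] {q n : ℕ}

/-- `n = 2 k`, `-q` of order `n` modulo `r` -/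
theorem psu_two (hF : Fintype.card F = q ^ 2) (h2 : (2 : F) ≠ 0) {k : ℕ} (hnk : n = 2 * k) (hk2 : 2 ≤ k) {r : ℕ}
    (hr : r.Prime) (hrF : (r : F) ≠ 0) (hrq : ¬ r ∣ q) (hk : orderOf ((Nat.card F : ℕ) : ZMod r) = k)
    (hqk : ¬ (r : ℤ) ∣ (-q : ℤ) ^ k - 1) {t m s : ℕ} (hnm : n = 2 ^ t * m) (hm : Odd m) (hqs : q + 1 = 2 ^ (t + 1) * s)
    (g : PSU n F q) : orderOf g ≠ 2 * r := by
  have hq2 := two_le hF
  have hqodd : Odd q := by
    rw [← Nat.not_even_iff_odd]
    rintro ⟨a, ha⟩
    have : 2 ^ (t + 1) * s = 2 * (2 ^ t * s) := by ring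
    omega
  refine psu_order_ne hF (by omega) hr (coprime_units_of_orderOf hr (by omega)) ?_ g
  intro x y hcomm hx hxs hxi hyi hdet c hy hcq
  haveI : Nonempty (Fin n) := ⟨⟨0, by omega⟩⟩
  have hxy : ∀ v, x (y v) = y (x v) := fun v => LinearMap.congr_fun hcomm.eq v
  have hx1 : x ≠ 1 := fun h => hxs 1 (by rw [h, one_smul])
  have hxM := (range_inv (x := x) (y := x) (fun v => rfl)).1
  have h1 := dvd_finrank_of_fpf_submodule hr x hx _ hxM (fpf_range hrF x hx)
  rw [hk] at h1
  have hdim : finrank F (Fin n → F) = n := finrank_fin_fun F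
  have hcount : ∀ U : Submodule F (Fin n → F), (∀ u ∈ U, (∀ v ∈ U, hermForm n F q u v = 0) → u = 0) →
      finrank F U = k → (∀ u ∈ U, x u ∈ U) → (∀ u ∈ U, x u = u → u = 0) → False := fun U hU hUk hxU hfU =>
    hqk (count_dvd hF hr U hU hUk hxi hx hxU hfU hrq)
  have hmul : ∀ d : ℕ, k ∣ d → d ≤ n → d = 0 ∨ d = k ∨ d = n := by
    rintro d ⟨a, rfl⟩ hd
    have ha : a ≤ 2 := by
      by_contra hcon
      have h3 : 3 ≤ a := by omega
      have h4 : k * 3 ≤ k * a := Nat.mul_le_mul_left k h3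
      omega
    interval_cases a
    · left; rfl
    · right; left; ring
    · right; right; omega
  -- `[V, x] = V`
  have hMV : finrank F (LinearMap.range (x - 1)) = finrank F (Fin n → F) := by
    rw [hdim]
    have hle := Submodule.finrank_le (LinearMap.range (x - 1))
    rw [hdim] at hle
    rcases hmul _ h1 hle with h | h | h
    · exfalso
      have := Submodule.finrank_eq_zero.1 h
      rw [LinearMap.range_eq_bot, sub_eq_zero] at this
      exact hx1 this
    · exact (hcount _ (herm_nondeg_range hF hrF hxi hx) h hxM (fpf_range hrF x hx)).elim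
    · exact h
  have hf := fpf_of_dim hrF x hx hMV
  have hinvdim : ∀ U : Submodule F (Fin n → F), (∀ u ∈ U, x u ∈ U) →
      U = ⊥ ∨ finrank F U = k ∨ U = ⊤ := by
    intro U hU
    have h3 := dvd_finrank_of_fpf_submodule hr x hx U hU (fun v _ h => hf v h)
    rw [hk] at h3
    have hle := Submodule.finrank_le U
    rw [hdim] at hle
    rcases hmul _ h3 hle with h | h | h
    · left; exact Submodule.finrank_eq_zero.1 h
    · right; left; exact h
    · right; right; exact Submodule.eq_top_of_finrank_eq (by rw [h, hdim])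
  -- `c = μ ^ 2`
  have hchar : ringChar F ≠ 2 := by
    intro h
    apply h2
    have := ringChar.Nat.cast_ringChar (R := F)
    rw [h] at this
    exact_mod_cast this
  have hc0 : c ≠ 0 := by
    rintro rfl
    rw [zero_pow (by omega)] at hcq
    exact zero_ne_one hcq
  obtain ⟨μ, hμ⟩ : ∃ μ : F, c = μ ^ 2 := by
    have hsq : IsSquare c := by
      rw [FiniteField.isSquare_iff hchar hc0, hF]
      obtain ⟨a, ha⟩ := hqodd
      have : q ^ 2 / 2 = (q + 1) * a := by
        have : q ^ 2 = 2 * ((q + 1) * a) + 1 := by rw [ha]; ring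
        omega
      rw [this, pow_mul, hcq, one_pow]
    obtain ⟨a, ha⟩ := hsq
    exact ⟨a, by rw [ha, sq]⟩
  subst hμ
  have hμ0 : μ ≠ 0 := by
    rintro rfl
    exact hc0 (by rw [zero_pow two_ne_zero])
  have hneg : ∀ v : Fin n → F, -v = v → v = 0 := by
    intro v hv
    have h5 : (2 : F) • v = 0 := by
      rw [two_smul]
      nth_rewrite 1 [← hv]
      exact neg_add_cancel v
    exact (smul_eq_zero.1 h5).resolve_left h2
  have hone : (-1 : F) ≠ 1 := by
    intro h
    apply h2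
    have : (1 : F) + 1 = 0 := by nth_rewrite 1 [← h]; exact neg_add_cancel 1
    rwa [one_add_one_eq_two] at this
  -- the eigenspaces of `y`
  have hyy : ∀ v, y (y v) = μ ^ 2 • v := fun v => LinearMap.congr_fun hy v
  set! U := LinearMap.ker (y - μ • (1 : Module.End F (Fin n → F))) with hUdef
  set! W := LinearMap.ker (y + μ • (1 : Module.End F (Fin n → F))) with hWdef
  have hUmem : ∀ v, v ∈ U ↔ y v = μ • v := fun v => by
    rw [hUdef, LinearMap.mem_ker, LinearMap.sub_apply, LinearMap.smul_apply, Module.End.one_apply, sub_eq_zero]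
  have hWmem : ∀ v, v ∈ W ↔ y v = -(μ • v) := fun v => by
    rw [hWdef, LinearMap.mem_ker, LinearMap.add_apply, LinearMap.smul_apply, Module.End.one_apply,
      add_eq_zero_iff_eq_neg]
  have hUx : ∀ u ∈ U, x u ∈ U := by
    intro u hu
    rw [hUmem] at hu ⊢
    rw [← hxy, hu, map_smul]
  have hWx : ∀ u ∈ W, x u ∈ W := by
    intro u hu
    rw [hWmem] at hu ⊢
    rw [← hxy, hu, map_neg, map_smul]
  have hdec : ∀ v : Fin n → F, ∃ a ∈ U, ∃ b ∈ W, v = a + b := by
    intro v
    have e1 : ∀ v : Fin n → F, μ⁻¹ • μ ^ 2 • v = μ • v := fun v => by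
      rw [smul_smul, sq, ← mul_assoc, inv_mul_cancel₀ hμ0, one_mul]
    have e2 : μ • μ⁻¹ • y v = y v := by rw [smul_smul, mul_inv_cancel₀ hμ0, one_smul]
    refine ⟨(2 : F)⁻¹ • (v + μ⁻¹ • y v), ?_, (2 : F)⁻¹ • (v - μ⁻¹ • y v), ?_, ?_⟩
    · rw [hUmem, map_smul, map_add, map_smul, hyy, e1 v, smul_comm μ (2 : F)⁻¹, smul_add μ, e2, add_comm]
    · rw [hWmem, map_smul, map_sub, map_smul, hyy, e1 v, smul_comm μ (2 : F)⁻¹, smul_sub μ, e2, ← smul_neg, neg_sub]
    · rw [← smul_add, add_add_sub_cancel, ← two_smul F v, smul_smul, inv_mul_cancel₀ h2, one_smul]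
  rcases hinvdim U hUx with hU | hUk | hU
  · refine ⟨-μ, LinearMap.ext fun v => ?_⟩
    obtain ⟨a, ha, b, hb, rfl⟩ := hdec v
    rw [hU, Submodule.mem_bot] at ha
    rw [ha, zero_add, (hWmem b).1 hb, LinearMap.smul_apply, Module.End.one_apply, neg_smul]
  · exfalso
    have hWk : finrank F W = k := by
      rcases hinvdim W hWx with h | h | h
      · exfalso
        have : U = ⊤ := by
          rw [eq_top_iff]
          intro v _
          obtain ⟨a, ha, b, hb, rfl⟩ := hdec v
          rw [h, Submodule.mem_bot] at hb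
          rw [hb, add_zero]
          exact ha
        rw [this, finrank_top, hdim] at hUk
        omega
      · exact h
      · exfalso
        have : U = ⊥ := by
          rw [eq_bot_iff]
          intro v hv
          have h3 := (hWmem v).1 (by rw [h]; trivial)
          rw [(hUmem v).1 hv] at h3
          have h4 := hneg _ h3.symm
          exact (smul_eq_zero.1 h4).resolve_left hμ0
        rw [this, finrank_bot] at hUk
        omega
    have hμq2 : μ ^ (q + 1) * μ ^ (q + 1) = 1 := by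
      rw [← hcq]; ring
    rcases mul_self_eq_one_iff.1 hμq2 with hμq | hμq
    · -- nondegenerate eigenspaces
      refine hcount U ?_ hUk hUx (fun u _ h => hf u h)
      intro u hu h
      apply herm_nondeg hF
      intro v
      obtain ⟨a, ha, b, hb, rfl⟩ := hdec v
      rw [herm_add_right hF, h a ha, zero_add]
      have h3 := hyi u b
      rw [(hUmem u).1 hu, (hWmem b).1 hb, herm_neg_right hF, herm_smul_left, herm_smul_right, ← mul_assoc,
        ← pow_succ', hμq, one_mul] at h3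
      have h5 : (2 : F) * hermForm n F q u b = 0 := by
        rw [two_mul]
        nth_rewrite 1 [← h3]
        exact neg_add_cancel _
      exact (mul_eq_zero.1 h5).resolve_left h2
    · -- totally isotropic eigenspaces
      have hyU : ∀ v ∈ U, y v ∈ U := by
        intro v hv
        rw [(hUmem v).1 hv]
        exact Submodule.smul_mem _ _ hv
      have hd := LinearMap.det_eq_det_mul_det U y hyU
      have hq' : U.mapQ U y hyU = (-μ) • (1 : Module.End F ((Fin n → F) ⧸ U)) := by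
        apply LinearMap.ext
        intro v
        obtain ⟨v, rfl⟩ := Submodule.mkQ_surjective U v
        obtain ⟨a1, ha1, b1, hb1, rfl⟩ := hdec v
        have e1 : U.mkQ (a1 + b1) = U.mkQ b1 := by
          rw [map_add]
          have : U.mkQ a1 = 0 := (Submodule.Quotient.mk_eq_zero U).2 ha1
          rw [this, zero_add]
        rw [e1]
        show U.mkQ (y b1) = _
        rw [(hWmem b1).1 hb1, ← neg_smul, map_smul]
        rfl
      have hfr : finrank F ((Fin n → F) ⧸ U) = k := by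
        have h1 := Submodule.finrank_quotient_add_finrank U
        omega
      have e2 : LinearMap.det (1 : Module.End F ((Fin n → F) ⧸ U)) = 1 := LinearMap.det_id
      have hrU : y.restrict hyU = μ • (1 : Module.End F U) :=
        LinearMap.ext fun v => Subtype.ext (((hUmem v).1 v.2 :))
      have e3 : LinearMap.det (1 : Module.End F U) = 1 := LinearMap.det_id
      rw [hdet, hq', hrU, LinearMap.det_smul, LinearMap.det_smul, hfr, hUk, e2, e3, mul_one, mul_one] at hd
      have h4 : μ ^ (2 * n) = 1 := by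
        have h5 : (μ ^ k * (-μ) ^ k) ^ 2 = 1 := by rw [← hd, one_pow]
        rw [mul_pow, ← pow_mul, ← pow_mul, Even.neg_pow ⟨k, by ring⟩, ← pow_add] at h5
        rw [hnk]
        convert h5 using 2
        ring
      have h5 : (μ ^ (q + 1)) ^ m = 1 := by
        have e1 : (q + 1) * m = (2 * n) * s := by rw [hqs, hnm]; ring
        rw [← pow_mul, e1, pow_mul, h4, one_pow]
      rw [hμq, hm.neg_one_pow] at h5
      exact hone h5
  · refine ⟨μ, LinearMap.ext fun v => ?_⟩
    have := (hUmem v).1 (by rw [hU]; trivial)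
    rw [this]
    rfl

/-- `r` divides `|PSU_n(q)|` -/
theorem dvd_card_psu (hF : Fintype.card F = q ^ 2) (hn : 2 ≤ n) {r : ℕ} (hr : r.Prime) (hrq : ¬ r ∣ q + 1) {i : ℕ}
    (hi : i < n) (hd : r ∣ (if Even i then q ^ (i + 1) + 1 else q ^ (i + 1) - 1)) : r ∣ Nat.card (PSU n F q) := by
  have h := Cfsg.Agent.S0280.result (F := F) hF n hn
  have hT : r ∣ q ^ (n * (n - 1) / 2) * ∏ i ∈ Finset.range n, (if Even i then q ^ (i + 1) + 1 else q ^ (i + 1) - 1) :=
    dvd_mul_of_dvd_right (hd.trans (Finset.dvd_prod_of_mem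
      (fun i : ℕ => (if Even i then q ^ (i + 1) + 1 else q ^ (i + 1) - 1)) (Finset.mem_range.2 hi))) _
  rw [← h] at hT
  rcases hr.dvd_mul.1 hT with h1 | h1
  · exact absurd (h1.trans (Nat.gcd_dvd_right _ _)) hrq
  · exact (hr.dvd_mul.1 h1).resolve_left hrq

theorem orderOf_card_sq (hF : Fintype.card F = q ^ 2) {r e k : ℕ} (hq : 1 ≤ q) (h : ∀ m, r ∣ q ^ m - 1 ↔ e ∣ m)
    (hk : ∀ m, e ∣ 2 * m ↔ k ∣ m) : orderOf ((Nat.card F : ℕ) : ZMod r) = k := by
  rw [Nat.card_eq_fintype_card, hF]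
  refine orderOf_eq_of_primitive (Nat.one_le_pow _ _ hq) fun m => ?_
  rw [← pow_mul, h, hk]

theorem not_dvd_add_one {r e : ℕ} (h : ∀ m, r ∣ q ^ m - 1 ↔ e ∣ m) (he : 3 ≤ e) : ¬ r ∣ q + 1 := by
  intro h1
  have h3 : r ∣ q ^ 2 - 1 := by
    have : q ^ 2 - 1 = (q + 1) * (q - 1) := by
      have := Nat.sq_sub_sq q 1
      rw [one_pow] at this
      exact this
    rw [this]
    exact dvd_mul_of_dvd_left h1 _
  have := Nat.le_of_dvd two_pos ((h 2).1 h3)
  omega

theorem prime_ne_two {r e : ℕ} (hd : e ∣ r - 1) (hr : r.Prime) (he : 3 ≤ e) : r ≠ 2 := by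
  rintro rfl
  have := Nat.le_of_dvd (by norm_num) hd
  omega

/-- **`PSU_n(q)`** -/
theorem psu_far (hF : Fintype.card F = q ^ 2) (hn : 3 ≤ n) (hex : ¬ (n = 3 ∧ q = 2)) : Far (PSU n F q) := by
  have hq2 := two_le hF
  have hrF : ∀ {r : ℕ}, r.Prime → ¬ r ∣ q → (r : F) ≠ 0 := by
    intro r hr hrq
    refine natCast_ne_zero_of_not_dvd hr ?_
    rw [Nat.card_eq_fintype_card, hF]
    exact fun h => hrq (hr.dvd_of_dvd_pow h)
  rcases Nat.even_or_odd n with hev | hodd
  · have hn4 : 4 ≤ n := by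
      obtain ⟨a, ha⟩ := hev
      omega
    -- the case `k = n - 1`
    have hpart : ((2 : F) = 0 ∨ ∃ u w j : ℕ, Odd w ∧ q + 1 = 2 ^ u * w ∧ n = 2 ^ u * j) →
        ¬ (q = 2 ∧ 2 * (n - 1) = 6) → Far (PSU n F q) := by
      intro hor h6
      obtain ⟨r, hr, hrm, hrd, hrq⟩ := Cfsg.Agent.Lib.Zsigmondy.exists_primitive (a := q) (n := 2 * (n - 1))
        hq2 (by omega) (by omega) h6
      refine ⟨r, hr, prime_ne_two hrd hr (by omega),
        dvd_card_psu hF (by omega) hr (not_dvd_add_one hrm (by omega)) (i := n - 2) (by omega) ?_,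
        psu_partial hF hn4 hev hr (hrF hr hrq)
          (orderOf_card_sq hF (by omega) hrm fun m => Nat.mul_dvd_mul_iff_left two_pos) hor⟩
      have hev2 : Even (n - 2) := by
        obtain ⟨a, ha⟩ := hev
        exact ⟨a - 1, by omega⟩
      rw [if_pos hev2, show n - 2 + 1 = n - 1 by omega]
      exact dvd_pow_add_one_of_primitive hr (by omega) hrm
    by_cases h2 : (2 : F) = 0
    · by_cases h6 : q = 2 ∧ 2 * (n - 1) = 6
      · have hn4' : n = 4 := by omega
        obtain ⟨rfl, -⟩ := h6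
        subst hn4'
        obtain ⟨e⟩ := Cfsg.Agent.S0822.result (F := F) (K := ZMod 3) (by rw [hF]; rfl) (ZMod.card 3)
        exact Far.congr e.symm (psp_far (F := ZMod 3) le_rfl (fun _ => by rw [ZMod.card]))
      · exact hpart (Or.inl h2) h6
    · -- `q` odd
      have hqodd : Odd q := by
        have h3 := odd_card_of_two_ne_zero h2
        rw [hF] at h3
        rw [← Nat.not_even_iff_odd] at h3 ⊢
        exact fun h => h3 (h.pow_of_ne_zero two_ne_zero)
      obtain ⟨t, m, hm, hnm⟩ := Nat.exists_eq_two_pow_mul_odd (n := n) (by omega)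
      obtain ⟨u, w, hw, hqu⟩ := Nat.exists_eq_two_pow_mul_odd (n := q + 1) (by omega)
      by_cases htu : t + 1 ≤ u
      · have hqs : q + 1 = 2 ^ (t + 1) * (2 ^ (u - (t + 1)) * w) := by
          rw [← mul_assoc, ← pow_add, Nat.add_sub_cancel' htu]
          exact hqu
        obtain ⟨k, hk⟩ := hev.two_dvd
        have hodd1 : ¬ Even (n - 1) := by
          rw [Nat.not_even_iff_odd]
          exact ⟨k - 1, by (clear * - hn4 hk; omega)⟩
        rcases Nat.even_or_odd k with hkev | hkodd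
        · -- `n = 0` modulo `4`
          obtain ⟨r, hr, hrm, hrd, hrq⟩ := Cfsg.Agent.Lib.Zsigmondy.exists_primitive (a := q) (n := n)
            hq2 (by omega) (by omega) (by
              rintro ⟨rfl, -⟩
              exact absurd hqodd (by decide))
          have hr2 := prime_ne_two hrd hr (by omega)
          refine ⟨r, hr, hr2,
            dvd_card_psu hF (by omega) hr (not_dvd_add_one hrm (by omega)) (i := n - 1) (by omega) ?_,
            psu_two hF h2 hk (by omega) hr (hrF hr hrq) hrq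
              (orderOf_card_sq hF (by omega) hrm fun m => by rw [hk, Nat.mul_dvd_mul_iff_left two_pos]) ?_ hnm hm hqs⟩
          · rw [if_neg hodd1, show n - 1 + 1 = n by omega]
            exact (hrm n).2 dvd_rfl
          · rw [hkev.neg_pow]
            intro h
            have h3 : r ∣ q ^ k - 1 := by
              have : ((q ^ k - 1 : ℕ) : ℤ) = (q : ℤ) ^ k - 1 := by
                rw [Nat.cast_sub (Nat.one_le_pow _ _ (by omega))]
                push_cast
                rfl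
              rw [← this] at h
              exact_mod_cast h
            have := Nat.le_of_dvd (by omega) ((hrm k).1 h3)
            omega
        · -- `n = 2` modulo `4`
          have hk3 : 3 ≤ k := by
            obtain ⟨a, ha⟩ := hkodd
            omega
          obtain ⟨r, hr, hrm, hrd, hrq⟩ := Cfsg.Agent.Lib.Zsigmondy.exists_primitive (a := q) (n := k)
            hq2 (by omega) (by omega) (by
              rintro ⟨rfl, -⟩
              exact absurd hqodd (by decide))
          have hr2 := prime_ne_two hrd hr hk3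
          refine ⟨r, hr, hr2,
            dvd_card_psu hF (by omega) hr (not_dvd_add_one hrm (by omega)) (i := n - 1) (by omega) ?_,
            psu_two hF h2 hk (by omega) hr (hrF hr hrq) hrq
              (orderOf_card_sq hF (by omega) hrm fun m =>
                (Nat.Coprime.dvd_mul_left (Nat.coprime_two_right.2 hkodd))) ?_ hnm hm hqs⟩
          · rw [if_neg hodd1, show n - 1 + 1 = n by omega, hrm, hk]
            exact Dvd.intro_left 2 rfl
          · rw [hkodd.neg_pow]
            intro h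
            have h3 : r ∣ q ^ k - 1 := (hrm k).2 dvd_rfl
            have h4 : (r : ℤ) ∣ (q : ℤ) ^ k - 1 := by
              have : ((q ^ k - 1 : ℕ) : ℤ) = (q : ℤ) ^ k - 1 := by
                rw [Nat.cast_sub (Nat.one_le_pow _ _ (by omega))]
                push_cast
                rfl
              rw [← this]
              exact_mod_cast h3
            have h5 : (r : ℤ) ∣ 2 := by
              have := dvd_add h h4
              have e : -(q : ℤ) ^ k - 1 + ((q : ℤ) ^ k - 1) = -2 := by ring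
              rw [e, dvd_neg] at this
              exact this
            have h6 : r ∣ 2 := by exact_mod_cast h5
            exact hr2 ((Nat.prime_dvd_prime_iff_eq hr Nat.prime_two).1 h6)
      · refine hpart (Or.inr ⟨u, w, 2 ^ (t - u) * m, hw, hqu, ?_⟩) (by
          rintro ⟨rfl, -⟩
          exact absurd hqodd (by decide))
        rw [← mul_assoc, ← pow_add, Nat.add_sub_cancel' (by omega)]
        exact hnm
  · -- `n` odd
    obtain ⟨r, hr, hrm, hrd, hrq⟩ := Cfsg.Agent.Lib.Zsigmondy.exists_primitive (a := q) (n := 2 * n)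
      hq2 (by omega) (by omega) (by omega)
    refine ⟨r, hr, prime_ne_two hrd hr (by omega),
      dvd_card_psu hF (by omega) hr (not_dvd_add_one hrm (by omega)) (i := n - 1) (by omega) ?_,
      psu_full hF hn hodd hr (hrF hr hrq)
        (orderOf_card_sq hF (by omega) hrm fun m => Nat.mul_dvd_mul_iff_left two_pos)⟩
    have hev2 : Even (n - 1) := by
      obtain ⟨a, ha⟩ := hodd
      exact ⟨a, by omega⟩
    rw [if_pos hev2, show n - 1 + 1 = n by omega]
    exact dvd_pow_add_one_of_primitive hr (by omega) hrm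

theorem far_of_isPSU {G : Type*} [Group G] (h : IsPSU G) : Far G := by
  obtain ⟨F, _, _, n, q, hF, hn, hex, ⟨e⟩⟩ := h
  exact (psu_far hF hn hex).congr e.symm

end Cfsg.Agent.H150
end

-- part: H150/FarTw
section
/-!
# An odd prime not adjacent to `2`: `³D₄(q)`, `²E₆(q)` (helper150)
-/

set_option autoImplicit false
set_option linter.unusedSectionVars false

namespace Cfsg.Agent.H150

open Cfsg Cfsg.Lie Cfsg.Agent.H129 Cfsg.Agent.Nodes.RGDChev Cfsg.Agent.H129.TorusTw Cfsg.Agent.H129.RealT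

universe u

variable {K : Type u} [Field K] [Fintype K] {q : ℕ}

/-- `³D₄(q)` : the torus of order `q⁴ - q² + 1`. -/
theorem far_twistedD4 (hq : IsPrimePow q) (hK : Fintype.card K = q ^ 3) : Far ↥(twistedD4 K q) := by
  have hq2 : 2 ≤ q := hq.two_le
  have h0 : q ^ 2 ≤ q ^ 4 := Nat.pow_le_pow_right (by omega) (by norm_num)
  have hN : ((q ^ 4 - q ^ 2 + 1 : ℕ) : ℤ) = 1 - (q : ℤ) ^ 2 + (q : ℤ) ^ 4 := by
    push_cast [Nat.cast_sub h0]; ring
  obtain ⟨r, hr, hrq, hr2, hr3, hr5, hr7⟩ := S2373.exists_prime hq2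
  have hrN : r ∣ q ^ 4 - q ^ 2 + 1 := by
    have h1 := hrq
    rw [← hN] at h1
    exact Int.natCast_dvd_natCast.1 h1
  have hrW := TwD4Cyc.not_dvd_W hr hr2 hr3
  have hG : ∀ s, ¬ (r : ℤ) ∣ Gq DataD4C.B (q : ℤ) (DataD4C.R s) := by
    intro s hs
    have h1 := DataD4C.dvd_of_G hrq s hs
    exact hr.one_lt.ne' (Nat.dvd_one.1 (by exact_mod_cast h1))
  obtain ⟨T, -, h3, h5, -⟩ := TwT.tri_T hq hK DataD4C.hA DataD4C.chainOK DataD4C.hd_pi DataD4C.cycOK DataD4C.rootOK
    DataD4C.chain2OK DataD4C.hd2_eq (N := q ^ 4 - q ^ 2 + 1)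
    (by rw [DataD4C.fN_eq, hN]) (UntwData.coprime_of_eq (a := -(q : ℤ) + (q : ℤ) ^ 3) (by rw [hN]; ring))
  refine far_of_T hr hr2 (by rw [h3]; exact hrN) (by
    rw [h3]
    refine (Nat.even_sub h0 |>.2 ?_).add_one
    simp only [Nat.even_pow, _root_.ne_eq, _root_.OfNat.ofNat_ne_zero, _root_.not_false_eq_true, _root_.and_true]) (h5 r hr hrW hG)

/-- `²E₆(q)` : the torus of order `(q⁴ - q² + 1)(q² - q + 1)/(3, q + 1)`. -/
theorem far_twistedE6 (hq : IsPrimePow q) (hK : Fintype.card K = q ^ 2) : Far ↥(twistedE6 K q) := by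
  have hq2 : 2 ≤ q := hq.two_le
  have h0 : q ^ 2 ≤ q ^ 4 := Nat.pow_le_pow_right (by omega) (by norm_num)
  have hle : q ≤ q ^ 2 := by nlinarith only []
  have hN : (((q ^ 4 - q ^ 2 + 1) * (q ^ 2 - q + 1) : ℕ) : ℤ) =
      1 - (q : ℤ) + (q : ℤ) ^ 3 - (q : ℤ) ^ 5 + (q : ℤ) ^ 6 := by
    push_cast [Nat.cast_sub h0, Nat.cast_sub hle]; ring
  obtain ⟨r, hr, hrq, hr2, hr3, hr5, hr7⟩ := S2373.exists_prime hq2
  have hr12 : r ∣ q ^ 4 - q ^ 2 + 1 := by
    have hN : ((q ^ 4 - q ^ 2 + 1 : ℕ) : ℤ) = 1 - (q : ℤ) ^ 2 + (q : ℤ) ^ 4 := by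
      push_cast [Nat.cast_sub h0]; ring
    have h1 := hrq
    rw [← hN] at h1
    exact Int.natCast_dvd_natCast.1 h1
  have hrW : ¬ r ∣ Nat.card CoxeterMatrix.E₆.Group := by
    rw [TwT.card_W6, show (51840 : ℕ) = 2 ^ 7 * 3 ^ 4 * 5 ^ 1 * 7 ^ 0 by norm_num]
    exact not_dvd_of hr hr2 hr3 hr5 hr7
  have hG : ∀ s, ¬ (r : ℤ) ∣ Gq DataTE6c.B (q : ℤ) (DataTE6c.R s) := by
    intro s hs
    rcases DataTE6c.dvd_of_G hrq s hs with h1 | h1
    · exact hr.one_lt.ne' (Nat.dvd_one.1 (by exact_mod_cast h1))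
    · exact hr2 ((Nat.prime_dvd_prime_iff_eq hr Nat.prime_two).1 (by exact_mod_cast h1))
  obtain ⟨T, -, h3, h4, h5, -⟩ := TwT.flip_T hq hK DataTE6c.hA DataTE6c.chainOK DataTE6c.hd_pi DataTE6c.cycOK
    DataTE6c.rootOK DataTE6c.chain2OK DataTE6c.hd2_eq (N := (q ^ 4 - q ^ 2 + 1) * (q ^ 2 - q + 1))
    (by rw [DataTE6c.fN_eq, hN]) (UntwData.coprime_of_eq (a := -1 + (q : ℤ) ^ 2 - (q : ℤ) ^ 4 + (q : ℤ) ^ 5)
      (by rw [hN]; ring))
  have hrd : ¬ r ∣ Nat.gcd 3 (q + 1) := fun h =>
    hr3 ((Nat.prime_dvd_prime_iff_eq hr Nat.prime_three).1 (h.trans (Nat.gcd_dvd_left _ _)))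
  refine far_of_T hr hr2 (dvd_of_dvd_mul hr (hr12.mul_right _) hrd h4) (odd_of_dvd h3 ?_) (h5 r hr hrW hG)
  refine Nat.odd_mul.2 ⟨?_, ?_⟩
  · refine (Nat.even_sub h0 |>.2 ?_).add_one
    simp only [Nat.even_pow, _root_.ne_eq, _root_.OfNat.ofNat_ne_zero, _root_.not_false_eq_true, _root_.and_true]
  · refine (Nat.even_sub hle |>.2 ?_).add_one
    simp only [Nat.even_pow, _root_.ne_eq, _root_.OfNat.ofNat_ne_zero, _root_.not_false_eq_true, _root_.and_true]

theorem far_of_iso3D4 {G : Type*} [Group G] (h : Iso3D4 G) : Far G := by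
  obtain ⟨K, _, _, q, hq, hK, ⟨e⟩⟩ := h
  exact Far.congr e.symm (far_twistedD4 hq hK)

theorem far_of_iso2E6 {G : Type*} [Group G] (h : Iso2E6 G) : Far G := by
  obtain ⟨K, _, _, q, hq, hK, ⟨e⟩⟩ := h
  exact Far.congr e.symm (far_twistedE6 hq hK)

end Cfsg.Agent.H150
end
end

-- part: H150/FarAll
section
set_option linter.all false
open scoped Cfsg.Agent.FastGrp

-- part: H150/FarAlt
section
/-!
# The alternating row of S2473 (helper150)
-/

set_option autoImplicit false

namespace Cfsg.Agent.H150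

open Cfsg

theorem alt_row {G : Type*} [Group G] (h : ∀ r : ℕ, r.Prime → r ≠ 2 → r ∣ Nat.card G → 2 * r ∈ Set.range (orderOf : G → ℕ))
    {n : ℕ} (hn : 5 ≤ n) (e : G ≃* alternatingGroup (Fin n)) :
    ∀ s : ℕ, s.Prime → ¬ (n - 3 ≤ s ∧ s ≤ n) := by
  intro s hs hsn
  obtain ⟨r, hr, hr2, hr3, hrn⟩ : ∃ r : ℕ, r.Prime ∧ r ≠ 2 ∧ n - 3 ≤ r ∧ r ≤ n := by
    by_cases hs2 : s = 2
    · exact ⟨5, Nat.prime_five, by norm_num, by omega, by omega⟩
    · exact ⟨s, hs, hs2, hsn.1, hsn.2⟩
  have hdvd : r ∣ Nat.card G := by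
    rw [Nat.card_congr e.toEquiv]
    have h1 : 2 * Nat.card (alternatingGroup (Fin n)) = n.factorial := by
      haveI : Nontrivial (Fin n) := Fin.nontrivial_iff_two_le.2 (by omega)
      have := two_mul_nat_card_alternatingGroup (α := Fin n)
      rw [this, Nat.card_perm, Nat.card_eq_fintype_card, Fintype.card_fin]
    have h2 : r ∣ 2 * Nat.card (alternatingGroup (Fin n)) := by
      rw [h1]
      exact (hr.dvd_factorial).2 hrn
    exact (hr.dvd_mul.1 h2).resolve_left fun h3 => hr2 ((Nat.prime_dvd_prime_iff_eq hr Nat.prime_two).1 h3)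
  obtain ⟨g, hg⟩ := h r hr hr2 hdvd
  have h4 := (Cfsg.Agent.S2467.result n r (by omega) hr hr2 hrn).1 ⟨e g, by
    show orderOf (e g) = 2 * r
    rw [MulEquiv.orderOf_eq]
    exact hg⟩
  omega

theorem not_far {G : Type*} [Group G] (h : ∀ r : ℕ, r.Prime → r ≠ 2 → r ∣ Nat.card G → 2 * r ∈ Set.range (orderOf : G → ℕ)) :
    ¬ Far G := by
  rintro ⟨r, hr, hr2, hd, hg⟩
  obtain ⟨g, h1⟩ := h r hr hr2 hd
  exact hg g h1

end Cfsg.Agent.H150
end

-- part: H150/FarRank
section
/-!
# An odd prime not adjacent to `2`: Suzuki groups and small Ree groups (helper150)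
-/

set_option autoImplicit false

namespace Cfsg.Agent.H150

open Subgroup Cfsg Cfsg.Lie

theorem far_sz {F : Type*} [Field F] [Fintype F] {m : ℕ} (hm : 1 ≤ m) (hF : Fintype.card F = 2 ^ (2 * m + 1)) :
    Far ↥(Cfsg.Sz F m) := by
  obtain ⟨U, -, hU, -⟩ := Cfsg.Agent.S0333.result hm hF (2 ^ (2 * m + 1) + 2 ^ (m + 1) + 1) (by simp)
  have e1 : 2 ^ (2 * m + 1) = 2 * 2 ^ (2 * m) := by rw [pow_succ]; ring
  have e2 : 2 ^ (m + 1) = 2 * 2 ^ m := by rw [pow_succ]; ring
  have h1 : 1 ≤ 2 ^ (2 * m) := Nat.one_le_two_pow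
  have h2 : 1 ≤ 2 ^ m := Nat.one_le_two_pow
  have hr : (Nat.minFac (Nat.card U)).Prime := Nat.minFac_prime (by rw [hU]; omega)
  have hrd : Nat.minFac (Nat.card U) ∣ Nat.card U := Nat.minFac_dvd _
  generalize Nat.minFac (Nat.card U) = r at hr hrd
  have hr2 : r ≠ 2 := by
    rintro rfl
    rw [hU] at hrd
    omega
  refine ⟨r, hr, hr2, hrd.trans (Subgroup.card_subgroup_dvd_card U), fun g hg => ?_⟩
  have hg1 : g ≠ 1 := by
    rintro rfl
    rw [orderOf_one] at hg
    omega
  obtain ⟨V, ⟨hV, hgV⟩, -⟩ := Cfsg.Agent.S2238.result hm hF g hg1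
  rcases hV with ⟨P, rfl⟩ | ⟨-, hN⟩
  · obtain ⟨k, hk⟩ := P.isPGroup' ⟨g, hgV⟩
    have h3 : g ^ 2 ^ k = 1 := congrArg Subtype.val hk
    have h4 : r ∣ 2 ^ k := (Dvd.intro_left 2 rfl).trans (hg ▸ orderOf_dvd_of_pow_eq_one h3)
    exact hr2 ((Nat.prime_dvd_prime_iff_eq hr Nat.prime_two).1 (hr.dvd_of_dvd_pow h4))
  · have h5 : 2 ∣ Nat.card V := by
      have h6 : orderOf g ∣ Nat.card V := by
        rw [← Subgroup.orderOf_mk g hgV]
        exact orderOf_dvd_natCard _
      exact (Dvd.intro r (by rw [hg])).trans h6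
    have h3 : 2 ^ (m + 1) ≤ 2 ^ (2 * m + 1) := Nat.pow_le_pow_right two_pos (by omega)
    rcases hN with hN | hN | hN <;> rw [hN] at h5 <;> omega

theorem far_of_isoSuzuki {G : Type*} [Group G] (hG : Lie.IsoSuzuki G) : Far G := by
  obtain ⟨F, _, _, m, hm, hF, ⟨e⟩⟩ := hG
  obtain ⟨e'⟩ := Cfsg.Agent.OddCyclic.ClaimC.SzIso.iso hm hF
  exact Far.congr (e'.trans e.symm) (far_sz hm hF)

theorem far_ree {K : Type*} [Field K] [Fintype K] {m : ℕ} (hm : 1 ≤ m) (hK : Fintype.card K = 3 ^ (2 * m + 1)) :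
    Far ↥(Cfsg.Lie.twistedG2 K (3 ^ m)) := by
  have : Finite ↥(Cfsg.Lie.twistedG2 K (3 ^ m)) := inferInstance
  have h1 := fun d => Cfsg.Agent.S1159.result hm hK d
  have e1 : 3 ^ (2 * m + 1) = 3 * (3 ^ m * 3 ^ m) := by rw [pow_succ, two_mul, pow_add]; ring
  have e2 : 3 ^ (m + 1) = 3 * 3 ^ m := by rw [pow_succ]; ring
  have h3 : 3 ≤ 3 ^ m := by
    calc 3 = 3 ^ 1 := (pow_one 3).symm
      _ ≤ 3 ^ m := Nat.pow_le_pow_right (by norm_num) hm
  have hodd : 3 ^ m % 2 = 1 := by rw [Nat.pow_mod]; norm_num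
  rw [e1, e2] at h1
  generalize 3 ^ m = c at h1 h3 hodd ⊢
  obtain ⟨b, hb⟩ : ∃ b, c = 2 * b + 1 := ⟨c / 2, by omega⟩
  have hle : 3 * c ≤ 3 * (c * c) := by nlinarith
  set N := 3 * (c * c) - 3 * c + 1 with hN
  have hNodd : ¬ 2 ∣ N := by
    have h5 : 3 * (c * c) - 3 * c = 2 * (6 * (b * b) + 3 * b) := by
      have : 3 * (c * c) = 3 * c + 2 * (6 * (b * b) + 3 * b) := by rw [hb]; ring
      omega
    rw [hN, h5]
    omega
  have hN1 : N ≠ 1 := by
    have : 3 * c < 3 * (c * c) := by nlinarith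
    omega
  have hr : (Nat.minFac N).Prime := Nat.minFac_prime hN1
  have hrd : Nat.minFac N ∣ N := Nat.minFac_dvd _
  generalize Nat.minFac N = r at hr hrd
  have hr2 : r ≠ 2 := by
    rintro rfl
    exact hNodd hrd
  have hr3 : r ≠ 3 := by
    rintro rfl
    rw [hN] at hrd
    omega
  have hrp := Nat.prime_iff_prime_int.1 hr
  -- `N N' = q ^ 2 - q + 1`
  have hrz : (r : ℤ) ∣ (3 * (c * c : ℤ)) ^ 2 - 3 * (c * c) + 1 := by
    have h5 : ((N : ℕ) : ℤ) = 3 * (c * c) - 3 * c + 1 := by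
      rw [hN]
      push_cast [Nat.cast_sub hle]
      ring
    have h6 : (3 * (c * c : ℤ)) ^ 2 - 3 * (c * c) + 1 = (N : ℤ) * (3 * (c * c) + 3 * c + 1) := by
      rw [h5]; ring
    rw [h6]
    exact dvd_mul_of_dvd_left (Int.natCast_dvd_natCast.2 hrd) _
  have hm1 : ¬ r ∣ 3 * (c * c) - 1 := by
    intro h
    have h5 : (r : ℤ) ∣ 3 * (c * c) - 1 := by
      have := Int.natCast_dvd_natCast.2 h
      rwa [Nat.cast_sub (by nlinarith), Nat.cast_mul, Nat.cast_mul, Nat.cast_one, Nat.cast_ofNat] at this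
    have h6 : (r : ℤ) ∣ 1 := by
      have h7 := dvd_sub hrz (dvd_mul_of_dvd_left h5 (3 * (c * c : ℤ)))
      have h8 : (3 * (c * c : ℤ)) ^ 2 - 3 * (c * c) + 1 - (3 * (c * c) - 1) * (3 * (c * c : ℤ)) = 1 := by ring
      rwa [h8] at h7
    exact hrp.not_dvd_one h6
  have hm2 : ¬ r ∣ (3 * (c * c) + 1) / 2 := by
    intro h
    have h4 : 2 ∣ 3 * (c * c) + 1 := by
      have : 3 * (c * c) + 1 = 2 * (6 * (b * b) + 6 * b + 2) := by rw [hb]; ring
      rw [this]
      exact Dvd.intro _ rfl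
    have h5 : r ∣ 3 * (c * c) + 1 := h.trans (Nat.div_dvd_of_dvd h4)
    have h6 : (r : ℤ) ∣ 3 * (c * c) + 1 := by exact_mod_cast Int.natCast_dvd_natCast.2 h5
    have h7 : (r : ℤ) ∣ 3 := by
      have h8 := dvd_sub hrz (dvd_mul_of_dvd_left h6 (3 * (c * c : ℤ) - 2))
      have h9 : (3 * (c * c : ℤ)) ^ 2 - 3 * (c * c) + 1 - (3 * (c * c) + 1) * (3 * (c * c : ℤ) - 2) = 3 := by ring
      rwa [h9] at h8
    have h8 : r ∣ 3 := by exact_mod_cast h7
    exact hr3 ((Nat.prime_dvd_prime_iff_eq hr Nat.prime_three).1 h8)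
  obtain ⟨x, hx⟩ := (h1 r).2 (Or.inr (Or.inr (Or.inr (Or.inr (Or.inl hrd)))))
  refine ⟨r, hr, hr2, hx ▸ orderOf_dvd_natCard x, fun g hg => ?_⟩
  rcases (h1 (2 * r)).1 ⟨g, hg⟩ with h | h | h | h | h | h
  · have h5 : r ∣ 3 := Nat.dvd_of_mul_dvd_mul_left two_pos (h.trans (by norm_num))
    exact hr3 ((Nat.prime_dvd_prime_iff_eq hr Nat.prime_three).1 h5)
  · have h5 : 2 ∣ 9 := (Dvd.intro r rfl).trans h
    omega
  · exact hm1 ((Dvd.intro_left 2 rfl).trans h)
  · exact hm2 ((Dvd.intro_left 2 rfl).trans h)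
  · exact hNodd ((Dvd.intro r rfl).trans h)
  · have h5 : 2 ∣ 3 * (c * c) + 3 * c + 1 := (Dvd.intro r rfl).trans h
    have h6 : 3 * (c * c) + 3 * c + 1 = 2 * (6 * (b * b) + 9 * b + 3) + 1 := by rw [hb]; ring
    omega

theorem far_of_isoRee {G : Type*} [Group G] (hG : Lie.IsoRee G) : Far G := by
  obtain ⟨K, _, _, m, hm, hK, ⟨e⟩⟩ := hG
  exact Far.congr e.symm (far_ree hm hK)

end Cfsg.Agent.H150
end

-- part: H150/FarTwF4
section
/-!
# An odd prime not adjacent to `2`: `²F₄(q)` (helper150)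
-/

set_option autoImplicit false
set_option linter.style.haveILetI false

namespace Cfsg.Agent.H150

open Cfsg Cfsg.Lie

theorem far_twistedF4 {K : Type*} [Field K] [Fintype K] (m : ℕ) (hm : 1 ≤ m)
    (hK : Fintype.card K = 2 ^ (2 * m + 1)) : Far ↥(twistedF4 K (2 ^ m)) := by
  set q : ℕ := 2 ^ (2 * m + 1) with hq
  have hq2 : 2 ≤ q := by
    calc 2 = 2 ^ 1 := rfl
      _ ≤ 2 ^ (2 * m + 1) := Nat.pow_le_pow_right (by norm_num) (by omega)
  obtain ⟨r, hr, hrm, hrd, hrq⟩ := Cfsg.Agent.Lib.Zsigmondy.exists_primitive (a := q) (n := 12) hq2 (by norm_num)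
    (by norm_num) (by omega)
  have hr2 : r ≠ 2 := by
    rintro rfl
    exact hrq (by rw [hq]; exact dvd_pow_self 2 (by omega))
  have h4 : ¬ r ∣ q ^ 4 - 1 := fun h => by
    have := (hrm 4).1 h
    omega
  refine ⟨r, hr, hr2, ?_, fun g hg => ?_⟩
  · rw [Cfsg.Agent.S1068.result hK, ← hq]
    exact dvd_mul_of_dvd_right (dvd_pow_add_one_of_primitive hr (by norm_num) hrm) _
  · have h1 : orderOf (g ^ 2) = r := by
      rw [orderOf_pow_of_dvd two_ne_zero (by rw [hg]; exact Dvd.intro _ rfl), hg]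
      exact Nat.mul_div_cancel_left _ two_pos
    have h2 : orderOf (g ^ r) = 2 := by
      rw [orderOf_pow_of_dvd hr.ne_zero (by rw [hg]; exact Dvd.intro_left _ rfl), hg]
      exact Nat.mul_div_cancel _ hr.pos
    have h3 := Cfsg.Agent.S2369.result m hm hK (g ^ r) (g ^ 2) h2 ((Commute.refl g).pow_pow r 2)
    have h5 : r ∈ (orderOf (g ^ 2)).primeFactors := by
      rw [h1]
      exact Nat.mem_primeFactors.2 ⟨hr, dvd_rfl, hr.ne_zero⟩
    have h6 := Nat.dvd_of_mem_primeFactors (h3 h5)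
    rcases hr.dvd_mul.1 h6 with h7 | h7
    · exact hrq h7
    · exact h4 h7

theorem far_of_iso2F4 {G : Type*} [Group G] (h : Iso2F4 G) : Far G := by
  obtain ⟨K, _, _, m, hm, hK, ⟨e⟩⟩ := h
  exact Far.congr e.symm (far_twistedF4 m hm hK)

end Cfsg.Agent.H150
end

-- part: H393/Iso/Far
section
/-!
# The sporadic rows of `Far` (helper393)
-/

set_option autoImplicit false

namespace Cfsg.Agent.H393.Iso

open Cfsg

theorem far_of_isSporadic {G : Type*} [Group G] [Finite G] [IsSimpleGroup G] (h : IsSporadicGroup G) :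
    Cfsg.Agent.H150.Far G := (isolated_of_isSporadic h).far

theorem far_of_isTits {G : Type*} [Group G] [Finite G] (h : Lie.IsoTits G) : Cfsg.Agent.H150.Far G :=
  (isolated_of_isTits h).far

end Cfsg.Agent.H393.Iso
end

-- part: H150/FarAll
section
/-!
# All rows of `Far` (helper150)

`far_of_known` : a known finite simple group which is neither of prime order nor alternating has an odd prime which is
not adjacent to `2` in the prime graph.
-/

set_option autoImplicit false

namespace Cfsg.Agent.H150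

open Cfsg Cfsg.Lie

variable {G : Type*} [Group G]

theorem far_of_isExceptional [Finite G] (h : IsExceptionalLieType G) : Far G := by
  rcases h with h | h | h | h | h | h | h | h | h | h | h
  · obtain ⟨F, _, _, -, ⟨e⟩⟩ := h
    exact Far.congr e.symm far_G2
  · obtain ⟨F, _, _, ⟨e⟩⟩ := h
    exact Far.congr e.symm far_F4
  · obtain ⟨F, _, _, ⟨e⟩⟩ := h
    exact Far.congr e.symm far_E6
  · obtain ⟨F, _, _, ⟨e⟩⟩ := h
    exact Far.congr e.symm far_E7
  · obtain ⟨F, _, _, ⟨e⟩⟩ := h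
    exact Far.congr e.symm far_E8
  · exact far_of_iso2E6 h
  · exact far_of_iso3D4 h
  · exact far_of_isoSuzuki h
  · exact far_of_isoRee h
  · exact far_of_iso2F4 h
  · exact Cfsg.Agent.H393.Iso.far_of_isTits h

/-- **The table.** -/
theorem far_of_known [Finite G] [IsSimpleGroup G] (h : IsKnownSimple' G) (h1 : ¬ IsPrimeCyclic G)
    (h2 : ¬ IsAlternating G) : Far G := by
  rcases h with h | h | h | h | h | h | h | h | h | h
  · exact absurd h h1
  · exact absurd h h2
  · exact far_of_isPSL h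
  · exact far_of_isPSp h
  · exact far_of_isPSU h
  · exact far_of_isPOmegaOdd h
  · exact far_of_isPOmegaPlus h
  · exact far_of_isPOmegaMinus h
  · exact far_of_isExceptional h
  · exact Cfsg.Agent.H393.Iso.far_of_isSporadic h

end Cfsg.Agent.H150
end
end
end
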